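import Groth.Agent.EtPurity91.UnitLocal
import Groth.Agent.Depth22.EtLocal
import Groth.Agent.Unr55.Et.AffineRefine

/-!
Units on opens of étale schemes as sections of `G_m`; local lifts along epimorphisms.
-/

set_option autoImplicit false
set_option backward.isDefEq.respectTransparency.types false
set_option linter.style.haveILetI false

universe u

open CategoryTheory CategoryTheory.Limits AlgebraicGeometry Opposite

namespace Groth.Agent.EtPurity91

open Groth.Agent.Unr55 Groth.Agent.Unr55.EtSh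

variable {X : Scheme.{u}}

theorem smap_smap (F : EtCoh.Ab X) {U V W : X.Etale} (g : W ⟶ V) (h : V ⟶ U) (x : EtCoh.sect F U) :
    F.obj.map g.op (F.obj.map h.op x) = F.obj.map (g ≫ h).op x := by
  rw [op_comp, Functor.map_comp, ConcreteCategory.comp_apply]

theorem range_comp_left {U V W : X.Etale} (g : W ⟶ V) (h : V ⟶ U) :
    Set.range (g ≫ h).left ⊆ Set.range h.left := by
  rintro _ ⟨z, rfl⟩
  exact ⟨g.left z, rfl⟩

theorem isOI_ι {S : Scheme.{u}} (O : S.Opens) : IsOpenImmersion O.ι := inferInstance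

/-- Lift into an open subobject. -/
noncomputable def liftO {Z V : X.Etale} (a : Z ⟶ V) (O : V.left.Opens)
    (h : Set.range a.left ⊆ (O : Set V.left)) : Z ⟶ openSub V O :=
  haveI := isOI_ι O
  have h' : Set.range a.left ⊆ Set.range O.ι := h.trans O.range_ι.superset
  have e : (@IsOpenImmersion.lift _ _ _ O.ι a.left (isOI_ι O) h') ≫ (O.ι ≫ V.hom) = Z.hom :=
    (Category.assoc _ _ _).symm.trans
      ((congrArg (· ≫ V.hom) (@IsOpenImmersion.lift_fac _ _ _ O.ι a.left (isOI_ι O) h')).trans (MorphismProperty.Over.w a))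
  MorphismProperty.Over.homMk ((@IsOpenImmersion.lift _ _ _ O.ι a.left (isOI_ι O) h')) e trivial

theorem liftO_fac {Z V : X.Etale} (a : Z ⟶ V) (O : V.left.Opens)
    (h : Set.range a.left ⊆ (O : Set V.left)) : liftO a O h ≫ openSubι V O = a :=
  haveI := isOI_ι O
  MorphismProperty.Over.Hom.ext (@IsOpenImmersion.lift_fac _ _ _ O.ι a.left (isOI_ι O) (h.trans O.range_ι.superset) :)

theorem hom_ext_openSub {Z V : X.Etale} {O : V.left.Opens} (a b : Z ⟶ openSub V O)
    (h : a ≫ openSubι V O = b ≫ openSubι V O) : a = b :=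
  MorphismProperty.Over.Hom.ext ((cancel_mono O.ι).1 (congrArg (fun m => m.left) h : _))

theorem le_preimage_left {Z V : X.Etale} (a : Z ⟶ V) {A : V.left.Opens}
    (h : Set.range a.left ⊆ (A : Set V.left)) : (⊤ : Z.left.Opens) ≤ a.left ⁻¹ᵁ A := fun z _ => h ⟨z, rfl⟩

/-- A unit on an open of `V` as a section of `G_m` on an object over that open. -/
noncomputable def gS {Z V : X.Etale} (a : Z ⟶ V) (A : V.left.Opens)
    (h : Set.range a.left ⊆ (A : Set V.left)) : Additive (Γ(V.left, A))ˣ →+ EtCoh.sect (EtCoh.Gm X) Z :=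
  AddMonoidHom.mk' (fun x => ULift.up (Additive.ofMul
      (Units.map (a.left.appLE A ⊤ (le_preimage_left a h)).hom.toMonoidHom (Additive.toMul x))))
    (fun x y => congrArg (fun t => ULift.up (Additive.ofMul t))
      (map_mul (Units.map (a.left.appLE A ⊤ (le_preimage_left a h)).hom.toMonoidHom)
        (Additive.toMul x) (Additive.toMul y)))

theorem gS_congr {Z V : X.Etale} {a b : Z ⟶ V} (e : a = b) (A : V.left.Opens)
    (h : Set.range a.left ⊆ (A : Set V.left)) (x : Additive (Γ(V.left, A))ˣ) :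
    gS a A h x = gS b A (e ▸ h) x := by
  subst e; rfl

theorem gS_res {Z V : X.Etale} (a : Z ⟶ V) {A B : V.left.Opens} (hle : B ≤ A)
    (h : Set.range a.left ⊆ (B : Set V.left)) (η : (Γ(V.left, A))ˣ) :
    gS a B h (Additive.ofMul (rv hle η)) = gS a A (h.trans hle) (Additive.ofMul η) := by
  refine congrArg (fun t => ULift.up (Additive.ofMul t)) (Units.ext ?_)
  exact congrArg (fun k : Γ(V.left, A) ⟶ Γ(Z.left, ⊤) => k.hom (η : Γ(V.left, A)))
    (Scheme.Hom.map_appLE a.left (le_preimage_left a h) (homOfLE hle).op)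

theorem gS_map {Z' Z V : X.Etale} (b : Z' ⟶ Z) (a : Z ⟶ V) {A : V.left.Opens}
    (h : Set.range a.left ⊆ (A : Set V.left)) (x : Additive (Γ(V.left, A))ˣ) :
    (EtCoh.Gm X).obj.map b.op (gS a A h x) = gS (b ≫ a) A ((range_comp_left b a).trans h) x := by
  have key : a.left.appLE A ⊤ (le_preimage_left a h) ≫ b.left.appTop =
      (b.left ≫ a.left).appLE A ⊤ (le_preimage_left (b ≫ a) ((range_comp_left b a).trans h)) := by
    have h1 : b.left.appTop = b.left.appLE ⊤ ⊤ le_top := Scheme.Hom.app_eq_appLE b.left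
    rw [h1]
    exact Scheme.Hom.appLE_comp_appLE _ _ _ _ _ _ _
  exact congrArg (fun t => ULift.up (Additive.ofMul t)) (Units.ext
    (congrArg (fun k : Γ(V.left, A) ⟶ Γ(Z'.left, ⊤) => k.hom ((Additive.toMul x : (Γ(V.left, A))ˣ) : Γ(V.left, A))) key))

theorem gS_comp {Z W V : X.Etale} (b : Z ⟶ W) (a : W ⟶ V) {A : V.left.Opens} {B : W.left.Opens}
    (hBA : B ≤ a.left ⁻¹ᵁ A) (h : Set.range b.left ⊆ (B : Set W.left)) (η : (Γ(V.left, A))ˣ) :
    gS b B h (Additive.ofMul (Units.map (a.left.appLE A B hBA).hom.toMonoidHom η)) =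
      gS (b ≫ a) A (by rintro _ ⟨z, rfl⟩; exact hBA (h ⟨z, rfl⟩)) (Additive.ofMul η) := by
  have key : a.left.appLE A B hBA ≫ b.left.appLE B ⊤ (le_preimage_left b h) =
      (b.left ≫ a.left).appLE A ⊤ (le_preimage_left (b ≫ a) (by rintro _ ⟨z, rfl⟩; exact hBA (h ⟨z, rfl⟩))) :=
    Scheme.Hom.appLE_comp_appLE _ _ _ _ _ _ _
  exact congrArg (fun t => ULift.up (Additive.ofMul t)) (Units.ext
    (congrArg (fun k : Γ(V.left, A) ⟶ Γ(Z.left, ⊤) => k.hom (η : Γ(V.left, A))) key))

theorem gS_bijective {Z V : X.Etale} (a : Z ⟶ V) [IsOpenImmersion a.left] {A : V.left.Opens}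
    (h : Set.range a.left ⊆ (A : Set V.left)) (h' : (A : Set V.left) ⊆ Set.range a.left) :
    Function.Bijective (gS a A h) := by
  obtain rfl : A = a.left.opensRange := TopologicalSpace.Opens.ext (Set.Subset.antisymm h' h)
  have hiso : IsIso (a.left.appLE a.left.opensRange ⊤ (le_preimage_left a h)) := by
    rw [Scheme.Hom.appLE]
    have : a.left ⁻¹ᵁ a.left.opensRange = ⊤ := Scheme.Hom.preimage_opensRange _
    have : IsIso (a.left.app a.left.opensRange) := a.left.isIso_app _ le_rfl
    have : IsIso (homOfLE (le_preimage_left a h)) := ⟨eqToHom (by rw [‹a.left ⁻¹ᵁ _ = ⊤›]), rfl, rfl⟩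
    infer_instance
  let φ := (@asIso _ _ _ _ _ hiso).commRingCatIsoToRingEquiv
  have hb : Function.Bijective (Units.map (a.left.appLE _ ⊤ (le_preimage_left a h)).hom.toMonoidHom) :=
    (Units.mapEquiv φ.toMulEquiv).bijective
  constructor
  · intro x y hxy
    exact Additive.toMul.injective (hb.1 (Additive.ofMul.injective (congrArg ULift.down hxy)))
  · intro s
    obtain ⟨η, hη⟩ := hb.2 (Additive.toMul (ULift.down s))
    exact ⟨Additive.ofMul η, congrArg (fun t => ULift.up (Additive.ofMul t)) hη⟩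

/-- Epimorphisms of sheaves are locally surjective. -/
theorem exists_local_lift {F G : EtCoh.Ab X} (φ : F ⟶ G) [Epi φ] {V : X.Etale} (s : EtCoh.sect G V)
    (v : V.left) :
    ∃ (W : X.Etale) (f : W ⟶ V) (w : W.left) (t : EtCoh.sect F W),
      f.left w = v ∧ φ.hom.app (op W) t = G.obj.map f.op s := by
  have : Sheaf.IsLocallySurjective φ := (Sheaf.isLocallySurjective_iff_epi' AddCommGrpCat.{u + 1} φ).2 ‹_›
  obtain ⟨Y, f, y, hf, -, hy⟩ := (Scheme.mem_toGrothendieck_smallPretopology V _).1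
    (EtaleAff.mem_topology_iff (Presheaf.imageSieve_mem X.smallEtaleTopology φ.hom s)) v
  obtain ⟨t, ht⟩ := hf
  exact ⟨Y, f, y, t, hy, ht⟩

/-- A section killed by a cokernel projection is locally in the image. -/
theorem exists_local_preimage {F G : EtCoh.Ab X} (φ : F ⟶ G) {V : X.Etale} (t : EtCoh.sect G V)
    (ht : (cokernel.π φ).hom.app (op V) t = 0) (v : V.left) :
    ∃ (W : X.Etale) (f : W ⟶ V) (w : W.left) (s : EtCoh.sect F W),
      f.left w = v ∧ φ.hom.app (op W) s = G.obj.map f.op t := by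
  let S : ShortComplex (EtCoh.Ab X) := ShortComplex.mk (kernel.ι (cokernel.π φ)) (cokernel.π φ) (kernel.condition _)
  have hS : S.ShortExact := { exact := ShortComplex.exact_of_f_is_kernel _ (kernelIsKernel _) }
  obtain ⟨y, hy⟩ := (EtPic91.sect_ses hS V).2 t ht
  obtain ⟨W, f, w, s, hw, hs⟩ := exists_local_lift (Abelian.factorThruImage φ) (V := V) y v
  refine ⟨W, f, w, s, hw, ?_⟩
  refine (ConcreteCategory.congr_hom (congrArg (fun m => m.hom.app (op W)) (Abelian.image.fac φ).symm) s).trans ?_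
  change (Abelian.image.ι φ).hom.app (op W) ((Abelian.factorThruImage φ).hom.app (op W) s) = _
  rw [hs, ← hy]
  exact NatTrans.naturality_apply (Abelian.image.ι φ).hom f.op y

variable {U : Scheme.{u}} (j : U ⟶ X) [IsOpenImmersion j]

/-- The part of `V` over the open. -/
noncomputable abbrev vo (V : X.Etale) : X.Etale := (EtShriek.compEtale j).obj ((EtCoh.bc j).obj V)

/-- Its inclusion. -/
noncomputable abbrev ct (V : X.Etale) : vo j V ⟶ V := (EtCore45.compBcAdj j).counit.app V

/-- The trace of the open on `V`. -/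
noncomputable abbrev uo (V : X.Etale) : V.left.Opens := V.hom ⁻¹ᵁ j.opensRange

theorem isOpenImmersion_ct (V : X.Etale) : IsOpenImmersion (ct j V).left := Depth22.isOI_counit j V

theorem range_ct (V : X.Etale) : Set.range (ct j V).left = (uo j V : Set V.left) :=
  Scheme.Pullback.range_fst (f := V.hom) (g := j)

theorem range_ct_comp {Z V : X.Etale} (a : Z ⟶ V) {A : V.left.Opens}
    (h : Set.range a.left ⊆ (A : Set V.left)) :
    Set.range (ct j Z ≫ a).left ⊆ ((A ⊓ uo j V : V.left.Opens) : Set V.left) := by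
  rintro _ ⟨z, rfl⟩
  refine ⟨h ⟨(ct j Z).left z, rfl⟩, ?_⟩
  have h1 : (ct j Z).left z ∈ (uo j Z : Set Z.left) := range_ct j Z ▸ ⟨z, rfl⟩
  have h2 : a.left ≫ V.hom = Z.hom := MorphismProperty.Over.w a
  change V.hom (a.left ((ct j Z).left z)) ∈ j.opensRange
  have h3 : Z.hom ((ct j Z).left z) ∈ j.opensRange := h1
  rwa [← h2] at h3

theorem range_ct_openSub (V : X.Etale) (O : V.left.Opens) :
    Set.range (ct j (openSub V O) ≫ openSubι V O).left = ((O ⊓ uo j V : V.left.Opens) : Set V.left) := by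
  refine Set.Subset.antisymm (range_ct_comp j _ (range_openSubι V O).subset) ?_
  rintro z ⟨hzO, hzU⟩
  obtain ⟨y, rfl⟩ := (range_openSubι V O).superset hzO
  have h2 : (openSubι V O).left ≫ V.hom = (openSub V O).hom := MorphismProperty.Over.w _
  have h3 : (openSub V O).hom y ∈ j.opensRange := by rw [← h2]; exact hzU
  obtain ⟨z, rfl⟩ := (range_ct j (openSub V O)).superset h3
  exact ⟨z, rfl⟩

end Groth.Agent.EtPurity91
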