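import Groth.Agent.EtPurity91.LocalEquation
import Groth.Agent.EtPurity91.Sites
import Groth.Agent.Unr55.EtStalk
import Groth.Agent.S0065

/-!
Units on étale neighbourhoods of a regular divisor, modulo units of the neighbourhood.
-/

set_option autoImplicit false
set_option backward.isDefEq.respectTransparency.types false
set_option linter.style.haveILetI false
set_option maxHeartbeats 400000

universe u

open CategoryTheory CategoryTheory.Limits AlgebraicGeometry Opposite IsLocalRing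

namespace Groth.Agent.EtPurity91

open Groth.Agent.Unr55 Groth.Agent.Unr55.EtSh

variable {X D U : Scheme.{u}}

/-- An equation of the divisor on an open. -/
structure Eqn (i : D ⟶ X) (j : U ⟶ X) where
  /-- The open. -/
  O : X.affineOpens
  /-- The equation. -/
  f : Γ(X, O.1)
  bo : ∀ y : X, y ∈ X.basicOpen f ↔ y ∈ O.1 ∧ y ∈ Set.range j
  par : ∀ (y : X) (hy : y ∈ O.1), y ∈ Set.range i →
    (X.presheaf.germ O.1 y hy).hom f ∈ maximalIdeal (X.presheaf.stalk y) ∧
      (X.presheaf.germ O.1 y hy).hom f ∉ maximalIdeal (X.presheaf.stalk y) ^ 2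

theorem exists_eqn [IsLocallyNoetherian X] (hXreg : ∀ x : X, IsRegularLocalRing (X.presheaf.stalk x))
    (i : D ⟶ X) [IsClosedImmersion i] (hDreg : ∀ y : D, IsRegularLocalRing (D.presheaf.stalk y))
    (hcodim : ∀ y : D, ringKrullDim (X.presheaf.stalk (i.base y)) = ringKrullDim (D.presheaf.stalk y) + 1)
    (j : U ⟶ X) (hU : Set.range j = (Set.range i)ᶜ) (x : X) : ∃ E : Eqn i j, x ∈ E.O.1 := by
  obtain ⟨O, f, hx, h⟩ := exists_equation hXreg i hDreg hcodim x
  refine ⟨⟨O, f, fun y => ⟨fun hy => ⟨X.basicOpen_le f hy, ?_⟩, fun ⟨hy, hyU⟩ => ?_⟩, fun y hy => (h y hy).2⟩, hx⟩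
  · rw [hU]
    intro hyD
    exact ((h y (X.basicOpen_le f hy)).2 hyD).1 ((X.mem_basicOpen f y _).1 hy)
  · rw [hU] at hyU
    exact (h y hy).1 hyU

theorem regular_etale [IsLocallyNoetherian X] (hXreg : ∀ x : X, IsRegularLocalRing (X.presheaf.stalk x))
    (V : X.Etale) (v : V.left) : IsRegularLocalRing (V.left.presheaf.stalk v) := by
  let g : V.left ⟶ X := V.hom
  have : Etale g := V.prop
  exact (Groth.Agent.S0065.result g v).2 (hXreg _)

theorem germ_appLE {V : Scheme.{u}} (g : V ⟶ X) {O : X.Opens} {W : V.Opens} (hW : W ≤ g ⁻¹ᵁ O) (w : V)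
    (hw : w ∈ W) (f : Γ(X, O)) :
    (V.presheaf.germ W w hw).hom ((g.appLE O W hW).hom f) =
      (g.stalkMap w).hom ((X.presheaf.germ O (g w) (hW hw)).hom f) := by
  rw [Scheme.Hom.appLE, CommRingCat.comp_apply]
  exact (germ_res hW hw _).trans (Scheme.Hom.germ_stalkMap_apply g O w (hW hw) f).symm

theorem prime_stalkMap {V : Scheme.{u}} (g : V ⟶ X) [Etale g] (w : V) [IsLocallyNoetherian X]
    [IsRegularLocalRing (V.presheaf.stalk w)] {x : X.presheaf.stalk (g w)}
    (h1 : x ∈ maximalIdeal (X.presheaf.stalk (g w))) (h2 : x ∉ maximalIdeal (X.presheaf.stalk (g w)) ^ 2) :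
    Prime ((g.stalkMap w).hom x) := by
  algebraize [(g.stalkMap w).hom]
  obtain ⟨hloc, hflat, hmax⟩ := Unr55.stalkMap_facts g w
  haveI := hloc
  haveI := hflat
  have : Module.FaithfullyFlat (X.presheaf.stalk (g w)) (V.presheaf.stalk w) :=
    Module.FaithfullyFlat.of_flat_of_isLocalHom
  have e : (g.stalkMap w).hom x = algebraMap (X.presheaf.stalk (g w)) (V.presheaf.stalk w) x := rfl
  rw [e]
  refine EtPic91.prime_of_regular_parameter (hmax ▸ Ideal.mem_map_of_mem _ h1) fun h => h2 ?_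
  rw [← hmax, ← Ideal.map_pow, ← Ideal.mem_comap, Ideal.comap_map_eq_self_of_faithfullyFlat] at h
  exact h

theorem appLE_res_res {V : Scheme.{u}} (g m : V ⟶ X) (e : m = g) {O B : X.Opens} (hB : B ≤ O) (f : Γ(X, O))
    {W A : V.Opens} (hW : W ≤ g ⁻¹ᵁ O) (hA : A ≤ W) (hBA : A ≤ m ⁻¹ᵁ B) :
    (V.presheaf.map (homOfLE hA).op).hom ((g.appLE O W hW).hom f) =
      (m.appLE B A hBA).hom ((X.presheaf.map (homOfLE hB).op).hom f) := by
  subst e
  rw [← CommRingCat.comp_apply, ← CommRingCat.comp_apply, Scheme.Hom.appLE_map, Scheme.Hom.map_appLE]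

variable {i : D ⟶ X} {j : U ⟶ X} [IsOpenImmersion j] (E : Eqn i j)

/-- `j_* j^* G_m`. -/
noncomputable abbrev T (j : U ⟶ X) [IsOpenImmersion j] : EtCoh.Ab X :=
  (EtShriek.restrAlong j ⋙ EtCoh.push j).obj (EtCoh.Gm X)

/-- Restriction of units to the open. -/
noncomputable abbrev uR (j : U ⟶ X) [IsOpenImmersion j] : EtCoh.Gm X ⟶ T j :=
  (EtCore45.restrPushAdj j).unit.app (EtCoh.Gm X)

theorem uR_app (Z : X.Etale) (s : EtCoh.sect (EtCoh.Gm X) Z) :
    (uR j).hom.app (op Z) s = (EtCoh.Gm X).obj.map (ct j Z).op s := rfl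

theorem vmap_ct {Z Z' : X.Etale} (b : Z' ⟶ Z) :
    (EtShriek.compEtale j).map ((EtCoh.bc j).map b) ≫ ct j Z = ct j Z' ≫ b :=
  (EtCore45.compBcAdj j).counit.naturality b

theorem T_map {Z Z' : X.Etale} (b : Z' ⟶ Z) (t : EtCoh.sect (EtCoh.Gm X) (vo j Z)) :
    (T j).obj.map b.op t = (EtCoh.Gm X).obj.map ((EtShriek.compEtale j).map ((EtCoh.bc j).map b)).op t := rfl

theorem eqn_range {Z : X.Etale} (hZ : Set.range Z.hom ⊆ (E.O.1 : Set X)) :
    Set.range (ct j Z ≫ (EtSh.isTerminalTop X).from Z).left ⊆ (X.basicOpen E.f : Set X) := by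
  rintro _ ⟨z, rfl⟩
  have e : ((EtSh.isTerminalTop X).from Z).left ≫ (EtCoh.top X).hom = Z.hom := MorphismProperty.Over.w _
  have e2 : ∀ y, ((EtSh.isTerminalTop X).from Z).left y = Z.hom y := fun y =>
    congrArg (fun m : Z.left ⟶ X => m y) ((Category.comp_id _).symm.trans e)
  change ((EtSh.isTerminalTop X).from Z).left ((ct j Z).left z) ∈ X.basicOpen E.f
  rw [e2]
  refine (E.bo _).2 ⟨hZ ⟨_, rfl⟩, ?_⟩
  have h1 : (ct j Z).left z ∈ (uo j Z : Set Z.left) := range_ct j Z ▸ ⟨z, rfl⟩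
  exact h1

/-- The equation as a unit on the part over the open. -/
noncomputable def eqS (Z : X.Etale) (hZ : Set.range Z.hom ⊆ (E.O.1 : Set X)) :
    EtCoh.sect (T j) Z :=
  gS (ct j Z ≫ (EtSh.isTerminalTop X).from Z) (X.basicOpen E.f) (eqn_range E hZ) (Additive.ofMul (fU E.f))

theorem eqS_map {Z Z' : X.Etale} (b : Z' ⟶ Z) (hZ : Set.range Z.hom ⊆ (E.O.1 : Set X)) :
    (T j).obj.map b.op (eqS E Z hZ) = eqS E Z' ((EtPic91.range_subset_of_hom b).trans hZ) := by
  rw [T_map]
  unfold eqS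
  rw [gS_map]
  refine gS_congr ?_ _ _ _
  rw [← Category.assoc, vmap_ct, Category.assoc]
  exact congrArg (ct j Z' ≫ ·) ((EtSh.isTerminalTop X).hom_ext _ _)

theorem exists_pullback_eqn (V : X.Etale) (W : V.left.Opens) (hW : W ≤ V.hom ⁻¹ᵁ E.O.1)
    [IsLocallyNoetherian X] (hXreg : ∀ x : X, IsRegularLocalRing (X.presheaf.stalk x)) :
    ∃ φ : Γ(V.left, W), V.left.basicOpen φ = W ⊓ uo j V ∧
      (∀ (w : V.left) (hw : w ∈ W), V.hom w ∈ Set.range i →
        Prime ((V.left.presheaf.germ W w hw).hom φ)) ∧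
      ∀ (O : V.left.Opens) (hOW : O ≤ W) (hO : Set.range (openSub V O).hom ⊆ (E.O.1 : Set X))
        (hb : O ⊓ uo j V ≤ V.left.basicOpen φ),
        eqS E (openSub V O) hO = gS (ct j (openSub V O) ≫ openSubι V O) (O ⊓ uo j V)
          (range_ct_openSub j V O).subset (Additive.ofMul (rv hb (fU φ))) := by
  let φ : Γ(V.left, W) := (V.hom.appLE E.O.1 W hW).hom E.f
  have hbo : V.left.basicOpen φ = W ⊓ uo j V := by
    simp only [φ]
    rw [Scheme.basicOpen_appLE]
    refine TopologicalSpace.Opens.ext (Set.ext fun w => ⟨fun ⟨hw, hwf⟩ => ⟨hw, ((E.bo _).1 hwf).2⟩, fun ⟨hw, hwU⟩ => ⟨hw, (E.bo _).2 ⟨hW hw, hwU⟩⟩⟩)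
  refine ⟨φ, hbo, fun w hw hwD => ?_, fun O hOW hO hb => ?_⟩
  · have := regular_etale hXreg V w
    let g : V.left ⟶ X := V.hom
    have : Etale g := V.prop
    obtain ⟨h1, h2⟩ := E.par (g w) (hW hw) hwD
    have e : (V.left.presheaf.germ W w hw).hom φ =
        (g.stalkMap w).hom ((X.presheaf.germ E.O.1 (g w) (hW hw)).hom E.f) :=
      germ_appLE g hW w hw E.f
    rw [e]
    exact prime_stalkMap g w h1 h2
  · have hBA : O ⊓ uo j V ≤ ((EtSh.isTerminalTop X).from V).left ⁻¹ᵁ X.basicOpen E.f := by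
      intro w hw
      have e : ((EtSh.isTerminalTop X).from V).left ≫ (EtCoh.top X).hom = V.hom := MorphismProperty.Over.w _
      have e2 : ((EtSh.isTerminalTop X).from V).left w = V.hom w :=
        congrArg (fun m : V.left ⟶ X => m w) ((Category.comp_id _).symm.trans e)
      change ((EtSh.isTerminalTop X).from V).left w ∈ X.basicOpen E.f
      rw [e2]
      exact (E.bo _).2 ⟨hW (hOW hw.1), hw.2⟩
    have hu : rv hb (fU φ) = Units.map (((EtSh.isTerminalTop X).from V).left.appLE (X.basicOpen E.f)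
        (O ⊓ uo j V) hBA).hom.toMonoidHom (fU E.f) := by
      refine Units.ext ?_
      change (V.left.presheaf.map (homOfLE hb).op).hom (Units.val (fU φ)) =
        (((EtSh.isTerminalTop X).from V).left.appLE _ _ hBA).hom (fU E.f : Γ(X, X.basicOpen E.f))
      rw [fU_coe, fU_coe, res_res]
      let g : V.left ⟶ X := V.hom
      let m : V.left ⟶ X := ((EtSh.isTerminalTop X).from V).left
      have e : m = g := (Category.comp_id m).symm.trans (MorphismProperty.Over.w ((EtSh.isTerminalTop X).from V))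
      exact appLE_res_res g m e (X.basicOpen_le E.f) E.f hW _ hBA
    rw [hu, gS_comp _ _ hBA]
    exact gS_congr (((congrArg (ct j (openSub V O) ≫ ·) ((EtSh.isTerminalTop X).hom_ext _ _))).trans
      (Category.assoc _ _ _).symm) _ _ _

theorem range_openSub_hom (V : X.Etale) (O : V.left.Opens) (A : X.Opens) (h : O ≤ V.hom ⁻¹ᵁ A) :
    Set.range (openSub V O).hom ⊆ (A : Set X) := by
  rintro _ ⟨z, rfl⟩
  exact h z.2

theorem uR_gS (V : X.Etale) (O : V.left.Opens) (η : (Γ(V.left, O))ˣ) :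
    (uR j).hom.app (op (openSub V O)) (gS (openSubι V O) O (range_openSubι V O).subset (Additive.ofMul η)) =
      gS (ct j (openSub V O) ≫ openSubι V O) (O ⊓ uo j V) (range_ct_openSub j V O).subset
        (Additive.ofMul (rv inf_le_left η)) := by
  rw [uR_app, gS_map, gS_res _ inf_le_left]

theorem T_map_openSub (V : X.Etale) (O : V.left.Opens) (h : O ⊓ uo j V ≤ uo j V)
    (η : (Γ(V.left, uo j V))ˣ) :
    (T j).obj.map (openSubι V O).op (gS (ct j V) (uo j V) (range_ct j V).subset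
        (Additive.ofMul η)) =
      gS (ct j (openSub V O) ≫ openSubι V O) (O ⊓ uo j V) (range_ct_openSub j V O).subset
        (Additive.ofMul (rv h η)) := by
  rw [T_map, gS_map, gS_res _ h]
  exact gS_congr (vmap_ct _) _ _ _

theorem exists_zpow [IsLocallyNoetherian X] (hXreg : ∀ x : X, IsRegularLocalRing (X.presheaf.stalk x))
    (V : X.Etale) (t : EtCoh.sect (T j) V) (v : V.left) (hv : V.hom v ∈ E.O.1)
    (hvD : V.hom v ∈ Set.range i) :
    ∃ (O : V.left.Opens) (hO : Set.range (openSub V O).hom ⊆ (E.O.1 : Set X))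
      (s : EtCoh.sect (EtCoh.Gm X) (openSub V O)) (k : ℤ), v ∈ O ∧
      (T j).obj.map (openSubι V O).op t = (uR j).hom.app (op (openSub V O)) s + k • eqS E (openSub V O) hO := by
  obtain ⟨W, hWaff, hvW, hW'⟩ := exists_isAffineOpen_mem_and_subset (X := V.left) (U := V.hom ⁻¹ᵁ E.O.1) (x := v) hv
  have hW : W ≤ V.hom ⁻¹ᵁ E.O.1 := hW'
  obtain ⟨φ, hbo, hprime, heq⟩ := exists_pullback_eqn E V W hW hXreg
  have := isOpenImmersion_ct j V
  obtain ⟨x, rfl⟩ := (gS_bijective (ct j V) (range_ct j V).subset (range_ct j V).superset).2 t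
  have := regular_etale hXreg V v
  have := CAlg1.isDomain_regular (V.left.presheaf.stalk v)
  obtain ⟨O, hOW, u, k, hvO, hg⟩ := exists_unit_zpow hWaff φ hvW (hprime v hvW hvD)
    (rv (hbo.le.trans inf_le_right) (Additive.toMul x))
  have hO := range_openSub_hom V O E.O.1 (hOW.trans hW)
  have hb : O ⊓ uo j V ≤ V.left.basicOpen φ := (inf_le_inf_right _ hOW).trans hbo.symm.le
  have hle : O ⊓ uo j V ≤ O ⊓ V.left.basicOpen φ := le_inf inf_le_left hb
  refine ⟨O, hO, gS (openSubι V O) O (range_openSubι V O).subset (Additive.ofMul u), k, hvO, ?_⟩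
  refine (T_map_openSub V O inf_le_right (Additive.toMul x)).trans ?_
  rw [uR_gS, heq O hOW hO hb]
  have hg' := congrArg (rv hle) hg
  rw [map_mul, map_zpow, rv_rv, rv_rv, rv_rv, rv_rv] at hg'
  rw [show rv (inf_le_right : O ⊓ uo j V ≤ uo j V) (Additive.toMul x) = _ from hg', ofMul_mul, ofMul_zpow,
    map_add, map_zsmul]
  rfl

theorem rigid_aux [IsLocallyNoetherian X] (hXreg : ∀ x : X, IsRegularLocalRing (X.presheaf.stalk x))
    (V : X.Etale) (v : V.left) (hv : V.hom v ∈ E.O.1) (hvD : V.hom v ∈ Set.range i)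
    (hV : Set.range V.hom ⊆ (E.O.1 : Set X))
    (η : (Γ(V.left, ⊤))ˣ) (k : ℤ)
    (h : (uR j).hom.app (op V) (gS (𝟙 V) ⊤ (Set.subset_univ _) (Additive.ofMul η)) + k • eqS E V hV = 0) :
    k = 0 ∧ (V.left.presheaf.germ ⊤ v trivial).hom (η : Γ(V.left, ⊤)) = 1 := by
  obtain ⟨W, hWaff, hvW, hW'⟩ := exists_isAffineOpen_mem_and_subset (X := V.left) (U := V.hom ⁻¹ᵁ E.O.1) (x := v) hv
  have hW : W ≤ V.hom ⁻¹ᵁ E.O.1 := hW'
  obtain ⟨φ, hbo, hprime, heq⟩ := exists_pullback_eqn E V W hW hXreg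
  have := regular_etale hXreg V v
  have := CAlg1.isDomain_regular (V.left.presheaf.stalk v)
  have h' := congrArg ((T j).obj.map (openSubι V W).op) h
  rw [map_add, map_zsmul, map_zero, eqS_map, heq W le_rfl _ hbo.symm.le,
    ← NatTrans.naturality_apply (uR j).hom, gS_map,
    gS_congr (Category.comp_id (openSubι V W)),
    ← gS_res (openSubι V W) (le_top : W ≤ ⊤) (range_openSubι V W).subset, uR_gS] at h'
  erw [← map_zsmul, ← map_add, ← ofMul_zpow, ← ofMul_mul] at h'
  have := isOpenImmersion_ct j (openSub V W)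
  have : IsOpenImmersion (openSubι V W).left := isOI_ι W
  have hoi : IsOpenImmersion (ct j (openSub V W) ≫ openSubι V W).left :=
    IsOpenImmersion.comp (ct j (openSub V W)).left (openSubι V W).left
  have h1 := Additive.ofMul.injective ((gS_bijective (ct j (openSub V W) ≫ openSubι V W)
    (range_ct_openSub j V W).subset (range_ct_openSub j V W).superset).1
      (h'.trans ((congrArg _ ofMul_one).trans (map_zero _)).symm))
  have hle : W ⊓ V.left.basicOpen φ ≤ W ⊓ uo j V := le_inf inf_le_left (inf_le_right.trans (hbo.le.trans inf_le_right))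
  have h2 := congrArg (rv hle) h1
  rw [map_mul, map_zpow, rv_rv, rv_rv, rv_rv, map_one] at h2
  obtain ⟨hk, hg⟩ := zpow_rigid φ hvW (hprime v hvW hvD) le_rfl hvW (rv le_top η) k
    ((congrArg₂ (· * ·) (rv_rv _ _ _) rfl).trans h2)
  exact ⟨hk, (germ_res _ hvW _).symm.trans hg⟩

theorem exists_uR_eq_off (V : X.Etale) (t : EtCoh.sect (T j) V) :
    ∃ s : EtCoh.sect (EtCoh.Gm X) (openSub V (uo j V)),
      (T j).obj.map (openSubι V (uo j V)).op t = (uR j).hom.app (op (openSub V (uo j V))) s := by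
  have := isOpenImmersion_ct j V
  have hm : Mono (ct j V).left := inferInstance
  have hr : Set.range (openSubι V (uo j V)).left ⊆ Set.range (ct j V).left :=
    (range_openSubι V _).subset.trans (range_ct j V).superset
  let l : openSub V (uo j V) ⟶ vo j V :=
    MorphismProperty.Over.homMk (IsOpenImmersion.lift (ct j V).left (openSubι V (uo j V)).left hr) (by
      rw [← MorphismProperty.Over.w (ct j V), ← Category.assoc, IsOpenImmersion.lift_fac]
      exact MorphismProperty.Over.w _) trivial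
  have hl : l ≫ ct j V = openSubι V (uo j V) :=
    MorphismProperty.Over.Hom.ext (IsOpenImmersion.lift_fac _ _ hr)
  have heq : (EtShriek.compEtale j).map ((EtCoh.bc j).map (openSubι V (uo j V))) = ct j _ ≫ l :=
    MorphismProperty.Over.Hom.ext (hm.right_cancellation _ _ (congrArg (fun m => m.left)
      ((vmap_ct (openSubι V (uo j V))).trans (by rw [Category.assoc, hl]) :
        (EtShriek.compEtale j).map ((EtCoh.bc j).map (openSubι V (uo j V))) ≫ ct j V = (ct j _ ≫ l) ≫ ct j V) : _))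
  refine ⟨(EtCoh.Gm X).obj.map l.op t, ?_⟩
  rw [T_map, uR_app, smap_smap, heq]

end Groth.Agent.EtPurity91
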