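import Groth.Agent.EtPurity91.Chart
import Groth.Agent.EtPic91.PicClass
import Groth.Agent.EtSupp91.TateLocal
import Groth.Agent.S0234

/-!
`R¹j_* G_m = 0` on regular schemes: invertible modules extend from opens.
-/

set_option autoImplicit false
set_option backward.isDefEq.respectTransparency.types false
set_option linter.style.haveILetI false
set_option maxHeartbeats 400000

universe u

open CategoryTheory CategoryTheory.Limits AlgebraicGeometry Opposite
open Groth.Agent.Var76.LineBundle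

namespace Groth.Agent.EtPurity91

open Groth.Agent.Unr55 Groth.Agent.Unr55.EtSh Groth.Agent.EtPic91
open Groth.Agent.EtCore45.MV (pullSect pullSect_bijective pullSect_map pullSect_natural)

section Zariski

variable {Y : Scheme.{u}} {S : ShortComplex (EtCoh.Ab Y)} (e : S.X₁ ≅ EtCoh.Gm Y)

theorem exists_glue_on (F : EtCoh.Ab Y) (T : Y.Opens) {ι : Type u} (U : ι → Y.Opens) (hle : ∀ k, U k ≤ T)
    (hU : ∀ x ∈ T, ∃ k, x ∈ U k) (t : ∀ k, EtCoh.sect F (oObj (U k)))
    (ht : ∀ k l, oRes F (inf_le_left : U k ⊓ U l ≤ U k) (t k) = oRes F (inf_le_right : U k ⊓ U l ≤ U l) (t l)) :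
    ∃! σ : EtCoh.sect F (oObj T), ∀ k, oRes F (hle k) σ = t k := by
  let π : ∀ k, oObj (U k) ⟶ oObj T := fun k => oMap (hle k)
  have hcov : Sieve.generate (Presieve.ofArrows (fun k => oObj (U k)) π) ∈
      Y.smallEtaleTopology (oObj T) := EtSh.mem_topology fun x => by
    have hxT : (oObj T).hom x ∈ T := (range_oObj T).subset ⟨x, rfl⟩
    obtain ⟨k, hk⟩ := hU _ hxT
    obtain ⟨z, hz⟩ := (range_oObj (U k)).superset hk
    refine ⟨oObj (U k), π k, z, Sieve.le_generate _ _ _ (Presieve.ofArrows.mk k), ?_⟩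
    exact T.ι.isOpenEmbedding.injective
      ((congrArg (fun m : (oObj (U k)).left ⟶ Y => m z) (MorphismProperty.Over.w (π k))).trans hz)
  have h : Presieve.IsSheafFor (F.obj ⋙ forget AddCommGrpCat.{u + 1})
      (Presieve.ofArrows (fun k => oObj (U k)) π) :=
    (Presieve.isSheafFor_iff_generate _).2 (EtSh.isSheafFor_forget F hcov)
  refine (Presieve.isSheafFor_arrows_iff _ _).1 h t fun k l Z gi gj _ => ?_
  have hr : Set.range Z.hom ⊆ ((U k ⊓ U l : Y.Opens) : Set Y) := fun z hz =>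
    ⟨range_subset_of_hom_oObj gi hz, range_subset_of_hom_oObj gj hz⟩
  change F.obj.map gi.op (t k) = F.obj.map gj.op (t l)
  rw [oObj_hom_ext gi (oLift hr ≫ oMap inf_le_left), oObj_hom_ext gj (oLift hr ≫ oMap inf_le_right),
    ← sect_map_map, ← sect_map_map]
  exact congrArg _ (ht k l)

theorem lift_of_frame {s : EtCoh.sect S.X₃ (EtCoh.top Y)} {L : Y.Modules} (D : Datum e s L) (T : Y.Opens)
    (ε : Γ(L, T)) (hε : IsFrame L T ε) :
    ∃ σ : EtCoh.sect S.X₂ (oObj T),
      S.g.hom.app (op (oObj T)) σ = S.X₃.obj.map ((EtSh.isTerminalTop Y).from _).op s := by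
  let U : D.ι → Y.Opens := fun k => D.U k ⊓ T
  have hex : ∀ k, ∃ h : (Γ(Y, U k))ˣ,
      (h : Γ(Y, U k)) • res L inf_le_right ε = res L inf_le_left (D.fr k) := fun k =>
    exists_transition L ((D.frame k).res inf_le_left) (hε.res inf_le_right)
  choose h hh using hex
  let t' : ∀ k, EtCoh.sect S.X₂ (oObj (U k)) := fun k =>
    oRes S.X₂ inf_le_left (D.t k) + lam e (oObj (U k)) (U k) (range_oObj _).subset (Additive.ofMul (h k))
  have hglue : ∀ k l, oRes S.X₂ (inf_le_left : U k ⊓ U l ≤ U k) (t' k) =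
      oRes S.X₂ (inf_le_right : U k ⊓ U l ≤ U l) (t' l) := fun k l => by
    let P := U k ⊓ U l
    have hk : P ≤ D.U k := inf_le_left.trans inf_le_left
    have hl : P ≤ D.U l := inf_le_right.trans inf_le_left
    obtain ⟨η, hη⟩ := exists_transition L ((D.frame k).res hk) ((D.frame l).res hl)
    have hkl : rU (inf_le_left : P ≤ U k) (h k) = η * rU (inf_le_right : P ≤ U l) (h l) := by
      refine Units.ext (frame_cancel (hε.res ((inf_le_left : P ≤ U k).trans inf_le_right)) ?_)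
      have e1 := congrArg (res L (inf_le_left : P ≤ U k)) (hh k)
      have e2 := congrArg (res L (inf_le_right : P ≤ U l)) (hh l)
      rw [res_smul, Var76.LineBundle.res_res, Var76.LineBundle.res_res] at e1 e2
      rw [Units.val_mul, mul_smul]
      refine e1.trans (hη.symm.trans ?_)
      exact congrArg ((η : Γ(Y, P)) • ·) e2.symm
    simp only [t']
    rw [oRes_add, oRes_add, oRes_oRes, oRes_oRes, lam_oRes e, lam_oRes e, hkl, ofMul_mul, map_add,
      D.trans k l P hk hl η hη.symm]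
    abel
  obtain ⟨σ, hσ, -⟩ := exists_glue_on S.X₂ T U (fun k => inf_le_right)
    (fun x hx => let ⟨k, hk⟩ := D.cov x; ⟨k, hk, hx⟩) t' hglue
  obtain ⟨s', -, hs'⟩ := exists_glue_on S.X₃ T U (fun k => inf_le_right)
    (fun x hx => let ⟨k, hk⟩ := D.cov x; ⟨k, hk, hx⟩)
    (fun k => S.X₃.obj.map ((EtSh.isTerminalTop Y).from _).op s)
    (fun k l => (oRes_from S.X₃ _ s).trans (oRes_from S.X₃ _ s).symm)
  refine ⟨σ, (hs' _ fun k => ?_).trans (hs' _ fun k => oRes_from S.X₃ _ s).symm⟩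
  rw [← g_oRes, hσ]
  simp only [t']
  rw [map_add, g_oRes, D.lift, oRes_from, app_g_lam e, add_zero]

end Zariski

variable {X U : Scheme.{u}}

theorem exists_lift_near [IsLocallyNoetherian X] (hXreg : ∀ x : X, IsRegularLocalRing (X.presheaf.stalk x))
    {S : ShortComplex (EtCoh.Ab X)} (hS : S.ShortExact) (e : S.X₁ ≅ EtCoh.Gm X)
    (V : X.Etale) (A : V.left.Opens) (q : EtCoh.sect S.X₃ (openSub V A)) (v : V.left) :
    ∃ (W : V.left.Opens) (σ : EtCoh.sect S.X₂ (openSub V (A ⊓ W))), v ∈ W ∧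
      ∀ (g : openSub V (A ⊓ W) ⟶ openSub V A), g ≫ openSubι V A = openSubι V (A ⊓ W) →
        S.g.hom.app (op (openSub V (A ⊓ W))) σ = S.X₃.obj.map g.op q := by
  let Z := openSub V A
  let Y : Scheme.{u} := A.toScheme
  let h : Y ⟶ X := Z.hom
  have : Etale h := Z.prop
  let g₀ : V.left ⟶ X := V.hom
  have : Etale g₀ := V.prop
  have hVn : IsLocallyNoetherian V.left := LocallyOfFiniteType.isLocallyNoetherian g₀
  have := EtSh.preservesFiniteLimits_pull h
  have hS' := hS.map_of_exact (EtCoh.pull h)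
  let e' : (S.map (EtCoh.pull h)).X₁ ≅ EtCoh.Gm Y :=
    (EtCoh.pull h).mapIso e ≪≫ (EtCore45.pullRestrIso h).app _ ≪≫ EtSupp91.restrGmIso h
  let m : (EtShriek.compEtale h).obj (EtCoh.top Y) ⟶ Z := MorphismProperty.Over.homMk (𝟙 Y)
    ((Category.id_comp _).trans (Category.id_comp _).symm) trivial
  obtain ⟨q', hq'⟩ := (pullSect_bijective h S.X₃ (EtCoh.top Y)).2 (S.X₃.obj.map m.op q)
  obtain ⟨L, ⟨D⟩⟩ := exists_datum e' hS' q'
  have hufd : ∀ x : V.left, UniqueFactorizationMonoid (V.left.presheaf.stalk x) := fun x => by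
    have := regular_etale hXreg V x
    have := CAlg1.isDomain_regular (V.left.presheaf.stalk x)
    exact RegUFD52.ufm_of_regular _
  obtain ⟨L', hL', ⟨φ⟩⟩ := Groth.Agent.S0234.result V.left A L D.invertible fun x _ => hufd x
  obtain ⟨W, hvW, ε', hε'⟩ := Mero90.exists_frame' hL' v
  let T : Y.Opens := A.ι ⁻¹ᵁ W
  have hTW : A.ι ''ᵁ T ≤ W := A.ι.image_preimage_le W
  let ε₀ : Γ(L'.restrict A.ι, T) := res L' hTW ε'
  have hε₀ : IsFrame (L'.restrict A.ι) T ε₀ := (Amp73.isFrame_restrict_iff A.ι L' T ε₀).2 (hε'.res hTW)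
  obtain ⟨σ', hσ'⟩ := lift_of_frame e' D T _ (EtPic91.isFrame_of_iso φ hε₀)
  let σ₀ := pullSect h S.X₂ (oObj T) σ'
  have hoi : IsOpenImmersion (T.ι ≫ A.ι) := inferInstance
  have hr : Set.range (openSubι V (A ⊓ W)).left ⊆ Set.range (T.ι ≫ A.ι) := by
    rintro x hx
    obtain ⟨hxA, hxW⟩ := (range_openSubι V (A ⊓ W)).subset hx
    obtain ⟨y, rfl⟩ := A.range_ι.superset hxA
    obtain ⟨z, rfl⟩ := T.range_ι.superset (show y ∈ T from hxW)
    exact ⟨z, rfl⟩
  let n₀ : (openSub V (A ⊓ W)).left ⟶ T.toScheme :=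
    @IsOpenImmersion.lift _ _ _ (T.ι ≫ A.ι) (openSubι V (A ⊓ W)).left hoi hr
  have hn₀ : n₀ ≫ (T.ι ≫ A.ι) = (openSubι V (A ⊓ W)).left := @IsOpenImmersion.lift_fac _ _ _ _ _ hoi hr
  let n : openSub V (A ⊓ W) ⟶ (EtShriek.compEtale h).obj (oObj T) :=
    MorphismProperty.Over.homMk n₀ (by
      change n₀ ≫ (T.ι ≫ (A.ι ≫ V.hom)) = _
      rw [← Category.assoc T.ι, ← Category.assoc, hn₀]
      exact MorphismProperty.Over.w _) trivial
  let f₀ := (EtShriek.compEtale h).map ((EtSh.isTerminalTop Y).from (oObj T))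
  refine ⟨W, S.X₂.obj.map n.op σ₀, hvW, fun g hgι => ?_⟩
  have hg : g = n ≫ f₀ ≫ m := by
    refine hom_ext_openSub _ _ (hgι.trans (MorphismProperty.Over.Hom.ext ?_))
    have e2 : ((EtSh.isTerminalTop Y).from (oObj T)).left = T.ι :=
      (Category.comp_id _).symm.trans (MorphismProperty.Over.w ((EtSh.isTerminalTop Y).from (oObj T)))
    have e3 : (n ≫ f₀ ≫ m).left = n₀ ≫ T.ι := by
      change n₀ ≫ ((EtSh.isTerminalTop Y).from (oObj T)).left ≫ 𝟙 Y = _
      exact congrArg (n₀ ≫ ·) ((Category.comp_id _).trans e2)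
    change (openSubι V (A ⊓ W)).left = (n ≫ f₀ ≫ m).left ≫ A.ι
    rw [e3]
    exact hn₀.symm.trans (Category.assoc _ _ _).symm
  rw [hg]
  rw [NatTrans.naturality_apply S.g.hom n.op]
  have h1 : S.g.hom.app (op ((EtShriek.compEtale h).obj (oObj T))) σ₀ =
      S.X₃.obj.map (f₀ ≫ m).op q := by
    simp only [σ₀]
    rw [← pullSect_natural]
    refine (congrArg (pullSect h S.X₃ (oObj T)) hσ').trans ?_
    refine (pullSect_map h ((EtSh.isTerminalTop Y).from (oObj T)) q').trans ?_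
    rw [hq', smap_smap]
  rw [h1, smap_smap]

end Groth.Agent.EtPurity91
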