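import Groth.Agent.EtPurity91.Quot
import Groth.Agent.EtPurity91.GmR1
import Groth.Agent.EtCore45.Recoll
import Groth.Agent.EtDual93.LocCoh
import Groth.Agent.Unr55.Et.Kummer
import Groth.Agent.Depth22.ConstVal

/-!
Local cohomology of `G_m` and `μ_n` along a regular divisor.
-/

set_option autoImplicit false
set_option backward.isDefEq.respectTransparency.types false
set_option linter.style.haveILetI false
set_option maxHeartbeats 400000

universe u

open CategoryTheory CategoryTheory.Limits AlgebraicGeometry Opposite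

namespace Groth.Agent.EtPurity91

open Groth.Agent.Unr55 Groth.Agent.Unr55.EtSh Groth.Agent.LocConst45

variable {X D U : Scheme.{u}} {i : D ⟶ X} {j : U ⟶ X} [IsOpenImmersion j]

theorem epi_of_locally {F G : EtCoh.Ab X} (φ : F ⟶ G)
    (h : ∀ (V : X.Etale) (s : EtCoh.sect G V) (v : V.left),
      ∃ (W : X.Etale) (f : W ⟶ V) (w : W.left) (t : EtCoh.sect F W),
        f.left w = v ∧ φ.hom.app (op W) t = G.obj.map f.op s) : Epi φ := by
  have : Sheaf.IsLocallySurjective φ := by
    refine ⟨fun {V} s => mem_topology fun v => ?_⟩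
    obtain ⟨W, f, w, t, hw, ht⟩ := h V s v
    exact ⟨W, f, w, ⟨t, ht⟩, hw⟩
  infer_instance

theorem unitApp_comp_iso (j : U ⟶ X) [IsOpenImmersion j] (F : EtCoh.Ab X) :
    EtDual.unitApp j F ≫ (EtCoh.push j).map ((EtCore45.pullRestrIso j).hom.app F) =
      (EtCore45.restrPushAdj j).unit.app F :=
  Adjunction.unit_leftAdjointUniq_hom_app _ _ F

theorem nonempty_Q_iso_locCoh (j : U ⟶ X) [IsOpenImmersion j] :
    Nonempty (Q j ≅ (EtDual.locCoh j 1).obj (EtCoh.Gm X)) := by
  obtain ⟨e⟩ := (EtDual93.exists_locCoh_iso j (EtCoh.Gm X)).1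
  refine ⟨(cokernel.mapIso (EtDual.unitApp j (EtCoh.Gm X)) (uR j) (Iso.refl _)
    ((EtCoh.push j).mapIso ((EtCore45.pullRestrIso j).app _)) ?_).symm ≪≫ e⟩
  exact (unitApp_comp_iso j _).trans (Category.id_comp _).symm

theorem epi_unitApp_of_quotient [IsLocallyNoetherian X]
    (hXreg : ∀ x : X, IsRegularLocalRing (X.presheaf.stalk x)) {S : ShortComplex (EtCoh.Ab X)}
    (hS : S.ShortExact) [Injective S.X₂] (e : S.X₁ ≅ EtCoh.Gm X) :
    Epi (EtDual.unitApp j S.X₃) := by
  let r := (EtCore45.restrPushAdj j).unit.app S.X₃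
  suffices hr : Epi r by
    have h := unitApp_comp_iso j S.X₃
    have : EtDual.unitApp j S.X₃ = r ≫ inv ((EtCoh.push j).map ((EtCore45.pullRestrIso j).hom.app S.X₃)) := by
      simp only [r]
      rw [← h, Category.assoc, IsIso.hom_inv_id, Category.comp_id]
    rw [this]
    exact epi_comp _ _
  refine epi_of_locally r fun V q v => ?_
  let A := uo j V
  have := isOpenImmersion_ct j V
  have hr0 : Set.range (openSubι V A).left ⊆ Set.range (ct j V).left :=
    (range_openSubι V _).subset.trans (range_ct j V).superset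
  let l : openSub V A ⟶ vo j V :=
    MorphismProperty.Over.homMk (IsOpenImmersion.lift (ct j V).left (openSubι V A).left hr0) (by
      rw [← MorphismProperty.Over.w (ct j V), ← Category.assoc, IsOpenImmersion.lift_fac]
      exact MorphismProperty.Over.w _) trivial
  have hl : l ≫ ct j V = openSubι V A := MorphismProperty.Over.Hom.ext (IsOpenImmersion.lift_fac _ _ hr0)
  obtain ⟨W, σ, hvW, hσ⟩ := exists_lift_near hXreg hS e V A (S.X₃.obj.map l.op q) v
  have hrA : Set.range (openSubι V (A ⊓ W)).left ⊆ (A : Set V.left) :=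
    (range_openSubι V _).subset.trans fun _ h => h.1
  have hrW : Set.range (openSubι V (A ⊓ W)).left ⊆ (W : Set V.left) :=
    (range_openSubι V _).subset.trans fun _ h => h.2
  let a := liftO (openSubι V (A ⊓ W)) W hrW
  have : Mono a := ⟨fun p q hpq => hom_ext_openSub p q (by
    rw [← liftO_fac (openSubι V (A ⊓ W)) W hrW, ← Category.assoc, ← Category.assoc]
    exact congrArg (· ≫ openSubι V W) hpq)⟩
  obtain ⟨σ', hσ'⟩ := EtCore45.surjective_restrict_injective S.X₂ a σ
  refine ⟨openSub V W, openSubι V W, ⟨v, hvW⟩, S.g.hom.app (op (openSub V W)) σ', rfl, ?_⟩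
  change S.X₃.obj.map (ct j (openSub V W)).op (S.g.hom.app (op (openSub V W)) σ') =
    S.X₃.obj.map ((EtShriek.compEtale j).map ((EtCoh.bc j).map (openSubι V W))).op q
  have hk : Set.range (ct j (openSub V W) ≫ openSubι V W).left ⊆ ((A ⊓ W : V.left.Opens) : Set V.left) := by
    rw [range_ct_openSub, inf_comm]
  let k := liftO (ct j (openSub V W) ≫ openSubι V W) (A ⊓ W) hk
  have hka : k ≫ a = ct j (openSub V W) :=
    hom_ext_openSub _ _ (by rw [Category.assoc, liftO_fac, liftO_fac])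
  have hkl : k ≫ liftO (openSubι V (A ⊓ W)) A hrA ≫ l =
      (EtShriek.compEtale j).map ((EtCoh.bc j).map (openSubι V W)) := by
    have hm : Mono (ct j V).left := inferInstance
    refine MorphismProperty.Over.Hom.ext (hm.right_cancellation _ _ (congrArg (fun m => m.left) (?_ :
      (k ≫ liftO (openSubι V (A ⊓ W)) A hrA ≫ l) ≫ ct j V = _ ≫ ct j V) : _))
    rw [vmap_ct, Category.assoc, Category.assoc, hl, liftO_fac, liftO_fac]
  rw [← hka, ← smap_smap, ← NatTrans.naturality_apply S.g.hom a.op, hσ', hσ _ (liftO_fac _ A hrA), smap_smap,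
    smap_smap, ← hkl]
  rfl

theorem isZero_locCoh_two_Gm [IsLocallyNoetherian X]
    (hXreg : ∀ x : X, IsRegularLocalRing (X.presheaf.stalk x))
    (hm : Mono (EtDual.unitApp j (EtCoh.Gm X))) : IsZero ((EtDual.locCoh j 2).obj (EtCoh.Gm X)) := by
  obtain ⟨S, hS, h1, hI, hm2, -⟩ := Depth22.exists_shortExact j (EtCoh.Gm X) hm
  haveI := hI
  obtain ⟨e⟩ := (EtDual93.exists_locCoh_iso j S.X₃).1
  have := epi_unitApp_of_quotient (j := j) hXreg hS (eqToIso h1)
  have h3 : IsZero ((EtDual.locCoh j 1).obj S.X₃) :=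
    IsZero.of_iso (isZero_cokernel_of_epi _) e.symm
  have h := (Depth22.isZero_shift j hS hm2 1).1 h3
  rw [h1] at h
  exact h

theorem nsmul_id_app (F : EtCoh.Ab X) (n : ℕ) (V : X.Etale) (s : EtCoh.sect F V) :
    (n • 𝟙 F : F ⟶ F).hom.app (op V) s = n • s := by
  let G : EtCoh.Ab X ⥤ AddCommGrpCat.{u + 1} :=
    sheafToPresheaf _ _ ⋙ (evaluation _ AddCommGrpCat.{u + 1}).obj (op V)
  have : G.Additive := { map_add := rfl }
  have h : G.map (n • 𝟙 F) = n • 𝟙 (G.obj F) := by rw [G.map_nsmul, CategoryTheory.Functor.map_id]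
  exact ConcreteCategory.congr_hom h s

theorem isZero_pull_of_locally {Y : Scheme.{u}} (h : Y ⟶ X) [IsPreimmersion h] (K : EtCoh.Ab X)
    (hK : ∀ (V : X.Etale) (σ : EtCoh.sect K V) (v : V.left), V.hom v ∈ Set.range h →
      ∃ (W : X.Etale) (f : W ⟶ V) (w : W.left), f.left w = v ∧ K.obj.map f.op σ = 0) :
    IsZero ((EtCoh.pull h).obj K) := by
  rw [IsZero.iff_id_eq_zero]
  apply ((EtCoh.pullPushAdj h).homEquiv _ _).injective
  generalize hψ : ((EtCoh.pullPushAdj h).homEquiv _ _) (𝟙 ((EtCoh.pull h).obj K)) = ψ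
  rw [Adjunction.homEquiv_unit, Functor.map_zero, comp_zero]
  refine ObjectProperty.hom_ext _ (NatTrans.ext (funext fun V => ConcreteCategory.hom_ext _ _ fun σ => ?_))
  obtain ⟨V⟩ := V
  refine sect_eq_zero_of_local ((EtCoh.pull h).obj K) (U := (EtCoh.bc h).obj V) (ψ.hom.app (op V) σ) fun z => ?_
  have hz : V.hom ((pullback.fst V.hom h) z) = h ((pullback.snd V.hom h) z) :=
    congrArg (fun m : pullback V.hom h ⟶ X => m z) pullback.condition
  obtain ⟨W, f, w, hw, hf⟩ := hK V σ ((pullback.fst V.hom h) z) ⟨_, hz.symm⟩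
  have e : f.left ≫ V.hom = W.hom := MorphismProperty.Over.w f
  have hw2 : W.hom w = h ((pullback.snd V.hom h) z) := by
    rw [← e, ← hz, ← hw]
    rfl
  obtain ⟨z', hz'1, hz'2⟩ := Scheme.Pullback.exists_preimage_pullback (f := W.hom) (g := h) w _ hw2
  refine ⟨(EtCoh.bc h).obj W, (EtCoh.bc h).map f, z', ?_, ?_⟩
  · have hp : IsPreimmersion (pullback.fst V.hom h) := inferInstance
    refine (pullback.fst V.hom h).isEmbedding.injective ?_
    have e1 : ((EtCoh.bc h).map f).left ≫ pullback.fst V.hom h = pullback.fst W.hom h ≫ f.left :=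
      pullback.lift_fst _ _ _
    refine (congrArg (fun m : pullback W.hom h ⟶ V.left => m z') e1).trans ?_
    exact (congrArg f.left hz'1).trans hw
  · refine (NatTrans.naturality_apply ψ.hom f.op σ).symm.trans ?_
    rw [hf, map_zero]
    rfl

variable [IsLocallyNoetherian X] (hXreg : ∀ x : X, IsRegularLocalRing (X.presheaf.stalk x))
  (hU : Set.range j = (Set.range i)ᶜ) (hE : ∀ x : X, ∃ E : Eqn i j, x ∈ E.O.1)

include hXreg hU hE

theorem nonempty_coker_iso_push_const [IsClosedImmersion i] (n : ℕ) :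
    Nonempty (cokernel (n • 𝟙 (Q j)) ≅ (EtCoh.push i).obj (EtCoh.const D (ZMod n))) := by
  obtain ⟨c, hc⟩ := exists_class hXreg hU hE
  let P := cokernel (n • 𝟙 (Q j))
  let pr : Q j ⟶ P := cokernel.π _
  have hn0 : ∀ (V : X.Etale) (q : EtCoh.sect (Q j) V), pr.hom.app (op V) (n • q) = 0 := fun V q => by
    rw [← nsmul_id_app]
    exact ConcreteCategory.congr_hom (congrArg (fun m => m.hom.app (op V)) (cokernel.condition (n • 𝟙 (Q j)))) q
  let c' : EtCoh.sect P (EtCoh.top X) := pr.hom.app (op (EtCoh.top X)) c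
  let g : ZMod n →+ EtCoh.sect P (EtCoh.top X) := ZMod.lift n ⟨zmultiplesHom _ c', by
    change (n : ℤ) • c' = 0
    rw [natCast_zsmul]
    simp only [c']
    rw [← map_nsmul, hn0]⟩
  let M : AddCommGrpCat.{u + 1} := AddCommGrpCat.of (ULift.{u + 1} (ZMod n))
  let ψ : (Functor.const X.Etaleᵒᵖ).obj M ⟶ P.obj :=
    { app := fun Z => AddCommGrpCat.ofHom
        (((P.obj.map ((EtSh.isTerminalTop X).from Z.unop).op).hom.comp g).comp AddEquiv.ulift.toAddMonoidHom)
      naturality := fun Z Z' b => ConcreteCategory.hom_ext _ _ fun m => by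
        change P.obj.map ((EtSh.isTerminalTop X).from Z'.unop).op (g m.down) =
          P.obj.map b (P.obj.map ((EtSh.isTerminalTop X).from Z.unop).op (g m.down))
        rw [show b = b.unop.op from rfl, smap_smap,
          (EtSh.isTerminalTop X).hom_ext (b.unop ≫ _) ((EtSh.isTerminalTop X).from Z'.unop)] }
  let φ : EtCoh.const X (ZMod n) ⟶ P := ⟨sheafifyLift X.smallEtaleTopology ψ P.property⟩
  have hφ : ∀ (Z : X.Etale) (k : ℤ), φ.hom.app (op Z) (constσ M Z (ULift.up (k : ZMod n))) =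
      pr.hom.app (op Z) (k • (Q j).obj.map ((EtSh.isTerminalTop X).from Z).op c) := fun Z k => by
    refine (ConcreteCategory.congr_hom (congrArg (fun m : (Functor.const X.Etaleᵒᵖ).obj M ⟶ P.obj => m.app (op Z))
      (toSheafify_sheafifyLift X.smallEtaleTopology ψ P.property)) (ULift.up (k : ZMod n))).trans ?_
    change P.obj.map ((EtSh.isTerminalTop X).from Z).op (g (k : ZMod n)) = _
    simp only [g]
    rw [ZMod.lift_coe, zmultiplesHom_apply, map_zsmul, map_zsmul]
    exact congrArg (k • ·) (NatTrans.naturality_apply pr.hom ((EtSh.isTerminalTop X).from Z).op c).symm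
  have hepi : Epi φ := epi_of_locally φ fun V p v => by
    obtain ⟨W, f, w, q, hw, hq⟩ := exists_local_lift pr p v
    obtain ⟨W', f', w', k, hw', hk⟩ := exists_zsmul_class hXreg hU hE c hc W q w
    refine ⟨W', f' ≫ f, w', constσ M W' (ULift.up (k : ZMod n)), ?_, ?_⟩
    · change f.left (f'.left w') = v
      rw [hw', hw]
    · rw [← smap_smap, ← hq, hφ, ← hk]
      exact NatTrans.naturality_apply pr.hom f'.op q
  have hK : IsZero ((EtCoh.pull i).obj (kernel φ)) := by
    refine isZero_pull_of_locally i _ fun V σ v hv => ?_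
    let s : EtCoh.sect (EtCoh.const X (ZMod n)) V := (kernel.ι φ).hom.app (op V) σ
    have hs : φ.hom.app (op V) s = 0 :=
      ConcreteCategory.congr_hom (congrArg (fun m => m.hom.app (op V)) (kernel.condition φ)) σ
    obtain ⟨W, f, w, ⟨m⟩, hw, hm⟩ := (isTriv_const (X := X) M V).surj V (𝟙 V) s v
    rw [constσ_map] at hm
    obtain ⟨k, rfl⟩ := ZMod.intCast_surjective m
    have h1 : pr.hom.app (op W) (k • (Q j).obj.map ((EtSh.isTerminalTop X).from W).op c) = 0 := by
      rw [← hφ]
      refine (congrArg (φ.hom.app (op W)) hm.symm).trans ?_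
      refine (NatTrans.naturality_apply φ.hom f.op s).trans ?_
      rw [hs, map_zero]
    obtain ⟨W', f', w', q, hw', hq⟩ := exists_local_preimage (n • 𝟙 (Q j)) _ h1 w
    rw [nsmul_id_app, map_zsmul, smap_smap,
      (EtSh.isTerminalTop X).hom_ext (f' ≫ _) ((EtSh.isTerminalTop X).from W')] at hq
    have hwv : W'.hom w' = V.hom v := by
      have e : (f' ≫ f).left ≫ V.hom = W'.hom := MorphismProperty.Over.w _
      rw [← e]
      change V.hom (f.left (f'.left w')) = _
      rw [hw', hw]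
    have hdvd := dvd_of_zsmul_class hXreg hU hE c hc W' w' (hwv ▸ hv) k n q hq
    refine ⟨W, f, w, hw, LocConst45.injective_app_of_mono (kernel.ι φ) W ?_⟩
    rw [map_zero]
    refine (NatTrans.naturality_apply (kernel.ι φ).hom f.op σ).trans ?_
    refine hm.trans ?_
    rw [show (ULift.up (k : ZMod n) : ULift.{u + 1} (ZMod n)) = 0 from
      ULift.ext _ _ ((ZMod.intCast_zmod_eq_zero_iff_dvd k n).2 hdvd)]
    exact map_zero _
  have := EtSh.preservesFiniteLimits_pull i
  have : Epi ((EtCoh.pull i).map φ) := by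
    have := Functor.preservesEpimorphisms_of_adjunction (EtCoh.pullPushAdj i)
    infer_instance
  have : Mono ((EtCoh.pull i).map φ) :=
    Preadditive.mono_of_kernel_iso_zero (hK.of_iso (PreservesKernel.iso (EtCoh.pull i) φ).symm).isoZero
  have := isIso_of_mono_of_epi ((EtCoh.pull i).map φ)
  have hP0 : IsZero ((EtCoh.pull j).obj P) := by
    refine isZero_pull_of_locally j _ fun V p v hv => ?_
    obtain ⟨W, f, w, q, hw, hq⟩ := exists_local_lift pr p v
    have hwU : w ∈ uo j W := by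
      have e : f.left ≫ V.hom = W.hom := MorphismProperty.Over.w f
      change W.hom w ∈ Set.range j
      rw [← e]
      change V.hom (f.left w) ∈ Set.range j
      rw [hw]
      exact hv
    refine ⟨openSub W (uo j W), openSubι W _ ≫ f, ⟨w, hwU⟩, hw, ?_⟩
    rw [← smap_smap, ← hq, ← NatTrans.naturality_apply pr.hom, qπ_eq_zero_off, map_zero]
  have : IsIso ((EtCoh.pull i).map ((EtCoh.pullPushAdj i).unit.app P)) := EtCore45.isIso_pull_unit_closed i P
  have : IsIso ((EtCoh.pull j).map ((EtCoh.pullPushAdj i).unit.app P)) :=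
    ⟨0, hP0.eq_of_src _ _, (EtCore45.isZero_pull_push i j hU _).eq_of_src _ _⟩
  have := EtCore45.isIso_of_pulls i j hU ((EtCoh.pullPushAdj i).unit.app P)
  exact ⟨asIso ((EtCoh.pullPushAdj i).unit.app P) ≪≫
    (EtCoh.push i).mapIso ((asIso ((EtCoh.pull i).map φ)).symm ≪≫ EtCore.pullConst i (ZMod n))⟩

theorem locCoh_mu [IsClosedImmersion i] (n : ℕ) (hn : IsUnit (n : Γ(X, ⊤))) :
    IsZero ((EtDual.locCoh j 0).obj (EtCoh.mu X n)) ∧ IsZero ((EtDual.locCoh j 1).obj (EtCoh.mu X n)) ∧
      Nonempty ((EtDual.locCoh j 2).obj (EtCoh.mu X n) ≅ (EtCoh.push i).obj (EtCoh.const D (ZMod n))) := by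
  let S : ShortComplex (EtCoh.Ab X) :=
    ShortComplex.mk (EtCoh.muι X n) (EtCoh.powMap X n) (kernel.condition _)
  have := EtSh.epi_powMap X n hn
  have hmono : Mono (EtCoh.muι X n) := inferInstanceAs (Mono (kernel.ι (EtCoh.powMap X n)))
  have hepi : Epi S.g := this
  have hmono' : Mono S.f := hmono
  have hS : S.ShortExact := { exact := ShortComplex.exact_of_f_is_kernel _ (kernelIsKernel _) }
  have hmGm : Mono (EtDual.unitApp j (EtCoh.Gm X)) :=
    (Depth22.mono_unitApp_iff j _).2 (injective_restrict hXreg hU hE)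
  have hn' : ∀ x : X, x ∈ Set.range i → n ≠ 0 := fun x _ h => by
    subst h
    have := hn.map (X.presheaf.germ ⊤ x trivial).hom
    rw [map_natCast, Nat.cast_zero] at this
    exact not_isUnit_zero this
  obtain ⟨c, hc⟩ := exists_class hXreg hU hE
  have hQ : Mono (n • 𝟙 (Q j)) := by
    have : Mono (n • 𝟙 (Q j)).hom := by
      have : ∀ V, Mono ((n • 𝟙 (Q j)).hom.app V) := fun ⟨V⟩ => by
        refine (AddCommGrpCat.mono_iff_injective _).2 ((injective_iff_map_eq_zero _).2 fun q hq => ?_)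
        rw [nsmul_id_app] at hq
        exact eq_zero_of_nsmul hXreg hU hE c hc n hn' V q hq
      exact NatTrans.mono_of_mono_app _
    exact (sheafToPresheaf X.smallEtaleTopology AddCommGrpCat.{u + 1}).mono_of_mono_map this
  obtain ⟨e⟩ := nonempty_Q_iso_locCoh (X := X) j
  obtain ⟨Δ⟩ := RD97.nonempty_derivedLES (EtDual.secSupp j)
  let L := fun p : ℕ => EtDual.locCoh j p
  have hadd : ∀ p, (EtDual.locCoh j p).Additive := fun p =>
    inferInstanceAs ((EtDual.secSupp j).rightDerived p).Additive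
  have hmap : ∀ p, (EtDual.locCoh j p).map S.g = n • 𝟙 _ := fun p => by
    change (EtDual.locCoh j p).map (n • 𝟙 (EtCoh.Gm X)) = _
    rw [Functor.map_nsmul, CategoryTheory.Functor.map_id]
  have hcomm : (n • 𝟙 (Q j)) ≫ e.hom = e.hom ≫ (EtDual.locCoh j 1).map S.g := by
    rw [hmap]
    refine (Preadditive.nsmul_comp _ _ _).trans ((congrArg (n • ·) ((Category.id_comp _).trans
      (Category.comp_id _).symm)).trans (Preadditive.comp_nsmul _ _ _).symm)
  have hg1 : Mono ((EtDual.locCoh j 1).map S.g) := by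
    have : (EtDual.locCoh j 1).map S.g = e.inv ≫ (n • 𝟙 (Q j)) ≫ e.hom := by
      rw [hcomm, Iso.inv_hom_id_assoc]
    rw [this]
    infer_instance
  have h0Gm : IsZero ((EtDual.locCoh j 0).obj (EtCoh.Gm X)) := (Depth22.isZero_locCoh_zero_iff j _).2 hmGm
  have h2Gm := isZero_locCoh_two_Gm (j := j) hXreg hmGm
  refine ⟨?_, ?_, ?_⟩
  · rw [Depth22.isZero_locCoh_zero_iff]
    have h := (EtCoh.pullPushAdj j).unit.naturality (EtCoh.muι X n)
    have : Mono (EtCoh.muι X n ≫ EtDual.unitApp j (EtCoh.Gm X)) := mono_comp _ _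
    exact mono_of_mono_fac h.symm
  · have hx1 := Δ.exact₁ S hS 0 1 rfl
    have hx2 := Δ.exact₂ S hS 1
    have hf0 : (EtDual.locCoh j 1).map S.f = 0 := by
      refine hg1.right_cancellation _ _ ?_
      rw [zero_comp, ← Functor.map_comp, S.zero, Functor.map_zero]
    refine hx1.isZero_X₂ (h0Gm.eq_of_src _ _) ?_
    exact hf0
  · have hx1 := Δ.exact₁ S hS 1 2 rfl
    have hx3 := Δ.exact₃ S hS 1 2 rfl
    have he : Epi (Δ.δ S hS 1 2 rfl) := hx1.epi_f (h2Gm.eq_of_tgt _ _)
    have hcok := hx3.gIsCokernel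
    let e2 : cokernel ((EtDual.locCoh j 1).map S.g) ≅ (EtDual.locCoh j 2).obj (EtCoh.mu X n) :=
      IsColimit.coconePointUniqueUpToIso (cokernelIsCokernel _) hcok
    obtain ⟨eP⟩ := nonempty_coker_iso_push_const (i := i) hXreg hU hE n
    exact ⟨e2.symm ≪≫ (cokernel.mapIso _ _ e e hcomm).symm ≪≫ eP⟩

end Groth.Agent.EtPurity91
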