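import Groth.Agent.Div89.UFD
import Groth.Agent.FlatMor68.FlatInfNbhd
import Groth.Agent.RegUFD52.Basic
import Groth.Agent.CycCov3.Regular
import Groth.Agent.EtPic91.AwayUnits

/-!
A regular divisor on a regular scheme is locally cut out by a regular parameter.
-/

set_option autoImplicit false
set_option linter.style.haveILetI false

universe u

open CategoryTheory AlgebraicGeometry IsLocalRing nonZeroDivisors

namespace Groth.Agent.EtPurity91

theorem exists_ker_generator {A B : Type u} [CommRing A] [CommRing B] [IsRegularLocalRing A]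
    [IsRegularLocalRing B] (φ : A →+* B) (hφ : Function.Surjective φ)
    (hdim : ringKrullDim A = ringKrullDim B + 1) :
    ∃ p, RingHom.ker φ = Ideal.span {p} ∧ p ∈ maximalIdeal A ∧ p ∉ maximalIdeal A ^ 2 := by
  have := CAlg1.isDomain_regular A
  have := CAlg1.isDomain_regular B
  have := RegUFD52.ufm_of_regular A
  have e : (A ⧸ RingHom.ker φ) ≃+* B := RingHom.quotientKerEquivOfSurjective hφ
  have hP : (RingHom.ker φ).IsPrime := RingHom.ker_isPrime φ
  obtain ⟨d, hd⟩ : ∃ d : ℕ, ringKrullDim B = d :=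
    ⟨_, (IsRegularLocalRing.spanFinrank_maximalIdeal (R := B)).symm⟩
  have hdP : ringKrullDim (A ⧸ RingHom.ker φ) = d := (ringKrullDim_eq_of_ringEquiv e).trans hd
  have hne : RingHom.ker φ ≠ ⊥ := by
    intro h
    have h2 := ringKrullDim_eq_of_ringEquiv ((RingEquiv.quotientBot A).symm.trans
      ((Ideal.quotEquivOfEq h.symm).trans e))
    rw [hdim, hd] at h2
    have : (d : WithBot ℕ∞) + 1 = d := h2
    norm_cast at this
    simp at this
  obtain ⟨p, hp, hpp⟩ := hP.exists_mem_prime_of_ne_bot hne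
  have hm : RingHom.ker φ ≤ maximalIdeal A := le_maximalIdeal hP.ne_top
  have hker : RingHom.ker φ = Ideal.span {p} := by
    refine le_antisymm (fun q hq => ?_) ((Ideal.span_singleton_le_iff_mem _).2 hp)
    by_contra hq'
    have : (Ideal.span {p}).IsPrime := (Ideal.span_singleton_prime hpp.ne_zero).2 hpp
    have hI : (RingHom.ker φ).map (Ideal.Quotient.mk (Ideal.span {p})) ≠ ⊥ := fun h => by
      refine hq' (Ideal.Quotient.eq_zero_iff_mem.1 ?_)
      have := Ideal.mem_map_of_mem (Ideal.Quotient.mk (Ideal.span {p})) hq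
      rwa [h, Ideal.mem_bot] at this
    have := CAlg1.isLocalRing_quotient_singleton (hm hp)
    have h1 := CAlg1.ringKrullDim_quotient_succ_le_of_domain (R := A ⧸ Ideal.span {p}) hI
    have h2 := CAlg1.ringKrullDim_quotient_succ_le_of_domain (R := A)
      (I := Ideal.span {p}) (by simpa using hpp.ne_zero)
    have e2 := ringKrullDim_eq_of_ringEquiv (DoubleQuot.quotQuotEquivQuotOfLE
      ((Ideal.span_singleton_le_iff_mem _).2 hp : Ideal.span {p} ≤ RingHom.ker φ))
    rw [e2, hdP] at h1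
    rw [hdim, hd] at h2
    have h3 : (d : WithBot ℕ∞) + 1 + 1 ≤ d + 1 := le_trans (add_le_add h1 le_rfl) h2
    norm_cast at h3
    omega
  refine ⟨p, hker, hm hp, ?_⟩
  have : IsRegularLocalRing (A ⧸ Ideal.span {p}) :=
    IsRegularLocalRing.of_ringEquiv ((Ideal.quotEquivOfEq hker.symm).trans e).symm
  exact CycCov3.notMem_sq_of_quotient_regular (hm hp) hpp.ne_zero

theorem exists_equation {X D : Scheme.{u}} [IsLocallyNoetherian X]
    (hXreg : ∀ x : X, IsRegularLocalRing (X.presheaf.stalk x))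
    (i : D ⟶ X) [IsClosedImmersion i] (hDreg : ∀ y : D, IsRegularLocalRing (D.presheaf.stalk y))
    (hcodim : ∀ y : D, ringKrullDim (X.presheaf.stalk (i.base y)) = ringKrullDim (D.presheaf.stalk y) + 1)
    (x : X) :
    ∃ (O : X.affineOpens) (f : Γ(X, O.1)), x ∈ O.1 ∧ ∀ (y : X) (hy : y ∈ O.1),
      (y ∉ Set.range i → y ∈ X.basicOpen f) ∧
      (y ∈ Set.range i → (X.presheaf.germ O.1 y hy).hom f ∈ maximalIdeal (X.presheaf.stalk y) ∧
        (X.presheaf.germ O.1 y hy).hom f ∉ maximalIdeal (X.presheaf.stalk y) ^ 2) := by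
  have hsupp : (i.ker.support : Set X) = Set.range i := by
    rw [Scheme.Hom.support_ker]
    exact i.isClosedEmbedding.isClosed_range.closure_eq
  have hgen : ∀ z : D, ∃ p, Div89.stalkIdeal i.ker (i z) = Ideal.span {p} ∧
      p ∈ maximalIdeal _ ∧ p ∉ maximalIdeal (X.presheaf.stalk (i z)) ^ 2 := fun z => by
    have := hXreg (i z)
    have := hDreg z
    obtain ⟨p, hp⟩ := exists_ker_generator (i.stalkMap z).hom (i.stalkMap_surjective z) (hcodim z)
    rw [FlatMor68.FlatInfNbhd.ker_stalkMap_closedImmersion] at hp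
    exact ⟨p, hp⟩
  have hcart : BlowUp.IsEffCartierIdeal i.ker := Div89.isEffCartier_of_stalk fun y hy => by
    obtain ⟨z, rfl⟩ : y ∈ Set.range i := hsupp ▸ hy
    obtain ⟨p, hp, -, hp2⟩ := hgen z
    have := hXreg (i z)
    have := CAlg1.isDomain_regular (X.presheaf.stalk (i z))
    exact ⟨p, mem_nonZeroDivisors_of_ne_zero (fun h => hp2 (h ▸ zero_mem _)), hp⟩
  obtain ⟨O, hx, f, -, hf⟩ := hcart x
  refine ⟨O, f, hx, fun y hy => ⟨fun hyD => ?_, ?_⟩⟩
  · have h : ¬ i.ker.ideal O ≤ Div89.primeAt O y hy := fun h =>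
      hyD (hsupp.subset ((Div89.mem_support_iff_le i.ker O y hy).2 h))
    rw [hf, Ideal.span_singleton_le_iff_mem, Div89.mem_primeAt_iff, not_not] at h
    exact h
  · rintro ⟨z, rfl⟩
    obtain ⟨p, hp, hpm, hp2⟩ := hgen z
    rw [Div89.stalkIdeal_eq _ O _ hy, hf, Ideal.map_span, Set.image_singleton] at hp
    have := hXreg (i z)
    have := CAlg1.isDomain_regular (X.presheaf.stalk (i z))
    obtain ⟨v, hv⟩ := Ideal.span_singleton_eq_span_singleton.1 hp
    rw [← hv] at hpm hp2
    exact ⟨(Ideal.mul_unit_mem_iff_mem _ v.isUnit).1 hpm,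
      fun h => hp2 ((Ideal.mul_unit_mem_iff_mem _ v.isUnit).2 h)⟩

end Groth.Agent.EtPurity91
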