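import Groth.Agent.EtPurity91.Chart
import Groth.Agent.EtPic91.ZarUnits

/-!
The cokernel of `G_m → j_* G_m` is generated by the class of the divisor.
-/

set_option autoImplicit false
set_option backward.isDefEq.respectTransparency.types false
set_option linter.style.haveILetI false
set_option maxHeartbeats 400000

universe u

open CategoryTheory CategoryTheory.Limits AlgebraicGeometry Opposite IsLocalRing

namespace Groth.Agent.EtPurity91

open Groth.Agent.Unr55 Groth.Agent.Unr55.EtSh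

theorem zpow_eq_one {V : Scheme.{u}} {W : V.Opens} (φ φ' : Γ(V, W)) {v : V} (hv : v ∈ W)
    [IsDomain (V.presheaf.stalk v)] (hφ : Prime ((V.presheaf.germ W v hv).hom φ))
    (hφ' : Prime ((V.presheaf.germ W v hv).hom φ')) (hb : V.basicOpen φ ≤ V.basicOpen φ')
    {O : V.Opens} (hO : O ≤ W) (hvO : v ∈ O) (u : (Γ(V, O))ˣ) (k : ℤ)
    (h : rv ((inf_le_right : O ⊓ V.basicOpen φ ≤ _).trans hb) (fU φ') =
      rv (inf_le_left : O ⊓ V.basicOpen φ ≤ O) u * rv (inf_le_right : O ⊓ V.basicOpen φ ≤ _) (fU φ) ^ k) :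
    k = 1 := by
  let T := O ⊓ V.basicOpen φ
  let r := (V.presheaf.map (homOfLE hO).op).hom
  have hval : ∀ (ψ : Γ(V, W)) (hT : T ≤ V.basicOpen ψ),
      ((rv hT (fU ψ) : (Γ(V, T))ˣ) : Γ(V, T)) = (V.presheaf.map (homOfLE (inf_le_left : T ≤ O)).op).hom (r ψ) := by
    intro ψ hT
    change (V.presheaf.map _).hom (fU ψ : Γ(V, V.basicOpen ψ)) = _
    rw [fU_coe]
    simp only [r]
    rw [res_res, res_res]
  have hg : ∀ ψ, (V.presheaf.germ O v hvO).hom (r ψ) = (V.presheaf.germ W v hv).hom ψ :=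
    fun ψ => TopCat.Presheaf.germ_res_apply _ _ _ _ _
  have hu := u.isUnit.map (V.presheaf.germ O v hvO).hom
  obtain ⟨m, rfl | rfl⟩ := Int.eq_nat_or_neg k
  · have key : (V.presheaf.germ O v hvO).hom (r φ' - (u : Γ(V, O)) * r φ ^ m) = 0 := by
      refine germ_eq_zero φ hv hφ.ne_zero hO hvO _ ?_
      rw [map_sub, map_mul, map_pow, ← hval φ' (inf_le_right.trans hb), ← hval φ inf_le_right, sub_eq_zero]
      have := congrArg Units.val h
      rw [zpow_natCast, Units.val_mul, Units.val_pow_eq_pow_val] at this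
      exact this
    rw [map_sub, map_mul, map_pow, hg, hg, sub_eq_zero] at key
    rcases m with _ | _ | m
    · rw [pow_zero, mul_one] at key
      exact absurd (key ▸ hu) hφ'.not_unit
    · rfl
    · rw [pow_succ, ← mul_assoc] at key
      rcases hφ'.irreducible.isUnit_or_isUnit key with h1 | h1
      · exact absurd ((isUnit_pow_iff m.succ_ne_zero).1 (isUnit_of_mul_isUnit_right h1)) hφ.not_unit
      · exact absurd h1 hφ.not_unit
  · rw [zpow_neg, zpow_natCast, eq_mul_inv_iff_mul_eq] at h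
    have key : (V.presheaf.germ O v hvO).hom (r φ' * r φ ^ m - (u : Γ(V, O))) = 0 := by
      refine germ_eq_zero φ hv hφ.ne_zero hO hvO _ ?_
      rw [map_sub, map_mul, map_pow, ← hval φ' (inf_le_right.trans hb), ← hval φ inf_le_right, sub_eq_zero]
      have := congrArg Units.val h
      rw [Units.val_mul, Units.val_pow_eq_pow_val] at this
      exact this
    rw [map_sub, map_mul, map_pow, hg, hg, sub_eq_zero] at key
    exact absurd (isUnit_of_mul_isUnit_left (key.symm ▸ hu)) hφ'.not_unit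

variable {X D U : Scheme.{u}} {i : D ⟶ X} {j : U ⟶ X} [IsOpenImmersion j]

/-- The cokernel of restriction of units. -/
noncomputable abbrev Q (j : U ⟶ X) [IsOpenImmersion j] : EtCoh.Ab X := cokernel (uR j)

/-- The projection. -/
noncomputable abbrev qπ (j : U ⟶ X) [IsOpenImmersion j] : T j ⟶ Q j := cokernel.π (uR j)

theorem qπ_uR (Z : X.Etale) (s : EtCoh.sect (EtCoh.Gm X) Z) :
    (qπ j).hom.app (op Z) ((uR j).hom.app (op Z) s) = 0 :=
  ConcreteCategory.congr_hom (congrArg (fun m => m.hom.app (op Z)) (cokernel.condition (uR j))) s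

theorem qπ_map {Z Z' : X.Etale} (b : Z' ⟶ Z) (t : EtCoh.sect (T j) Z) :
    (Q j).obj.map b.op ((qπ j).hom.app (op Z) t) = (qπ j).hom.app (op Z') ((T j).obj.map b.op t) :=
  (NatTrans.naturality_apply (qπ j).hom b.op t).symm

theorem mem_range_i (hU : Set.range j = (Set.range i)ᶜ) {V : X.Etale} {v : V.left} (h : v ∉ uo j V) :
    V.hom v ∈ Set.range i := by
  by_contra hc
  refine h ?_
  change V.hom v ∈ Set.range j
  rw [hU]
  exact hc

theorem qπ_eq_zero_off (V : X.Etale) (q : EtCoh.sect (Q j) V) :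
    (Q j).obj.map (openSubι V (uo j V)).op q = 0 := by
  refine sect_eq_zero_of_local _ _ fun z => ?_
  obtain ⟨W, f, w, t, hw, ht⟩ := exists_local_lift (qπ j) ((Q j).obj.map (openSubι V (uo j V)).op q) z
  obtain ⟨s, hs⟩ := exists_uR_eq_off (j := j) W t
  have hwU : w ∈ uo j W := by
    have h1 : V.hom ((openSubι V (uo j V)).left (f.left w)) ∈ j.opensRange := by
      rw [hw]; exact z.2
    have e : (f ≫ openSubι V (uo j V)).left ≫ V.hom = W.hom := MorphismProperty.Over.w _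
    change W.hom w ∈ j.opensRange
    rw [← e]
    exact h1
  refine ⟨openSub W (uo j W), openSubι W _ ≫ f, ⟨w, hwU⟩, hw, ?_⟩
  rw [← smap_smap, ← ht, qπ_map, hs, qπ_uR]

theorem injective_restrict [IsLocallyNoetherian X] (hXreg : ∀ x : X, IsRegularLocalRing (X.presheaf.stalk x))
    (hU : Set.range j = (Set.range i)ᶜ) (hE : ∀ x : X, ∃ E : Eqn i j, x ∈ E.O.1) (V : X.Etale) :
    Function.Injective ((EtCoh.Gm X).obj.map (ct j V).op) := by
  refine (injective_iff_map_eq_zero _).2 fun s hs => ?_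
  have : IsOpenImmersion (𝟙 V : V ⟶ V).left := (inferInstance : IsOpenImmersion (𝟙 V.left))
  obtain ⟨η, rfl⟩ := (gS_bijective (𝟙 V) (A := ⊤) (Set.subset_univ _) (fun z _ => ⟨z, rfl⟩)).2 s
  have := isOpenImmersion_ct j V
  have h1 : rv (le_top : uo j V ≤ ⊤) (Additive.toMul η) = 1 := by
    refine Additive.ofMul.injective ((gS_bijective (ct j V) (range_ct j V).subset (range_ct j V).superset).1 ?_)
    rw [ofMul_one, map_zero, gS_res (ct j V) le_top (range_ct j V).subset, ← hs, gS_map]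
    exact (gS_congr (Category.comp_id _) _ _ _).symm
  have key : ∀ v : V.left, (V.left.presheaf.germ ⊤ v trivial).hom
      ((Additive.toMul η : (Γ(V.left, ⊤))ˣ) : Γ(V.left, ⊤)) = 1 := fun v => by
    have h2 : (V.left.presheaf.map (homOfLE (le_top : uo j V ≤ ⊤)).op).hom
        ((Additive.toMul η : (Γ(V.left, ⊤))ˣ) : Γ(V.left, ⊤)) = 1 := congrArg Units.val h1
    by_cases hv : v ∈ uo j V
    · rw [← germ_res (le_top : uo j V ≤ ⊤) hv, h2, map_one]
    · obtain ⟨E, hE⟩ := hE (V.hom v)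
      obtain ⟨W, -, hvW, hW'⟩ := exists_isAffineOpen_mem_and_subset (X := V.left) (U := V.hom ⁻¹ᵁ E.O.1) (x := v) hE
      have hW : W ≤ V.hom ⁻¹ᵁ E.O.1 := hW'
      obtain ⟨φ, hbo, hprime, -⟩ := exists_pullback_eqn E V W hW hXreg
      have := regular_etale hXreg V v
      have := CAlg1.isDomain_regular (V.left.presheaf.stalk v)
      have h3 := germ_eq_zero φ hvW (hprime v hvW (mem_range_i hU hv)).ne_zero le_rfl hvW
        ((V.left.presheaf.map (homOfLE (le_top : W ≤ ⊤)).op).hom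
          ((Additive.toMul η : (Γ(V.left, ⊤))ˣ) : Γ(V.left, ⊤)) - 1) (by
          have h4 := congrArg (V.left.presheaf.map (homOfLE
            ((inf_le_right : W ⊓ V.left.basicOpen φ ≤ _).trans (hbo.le.trans inf_le_right))).op).hom h2
          rw [res_res, map_one] at h4
          rw [map_sub, res_res, map_one, h4, sub_self])
      rw [map_sub, map_one, germ_res, sub_eq_zero] at h3
      exact h3
  have : Additive.toMul η = 1 := Units.ext
    (TopCat.Presheaf.section_ext V.left.sheaf ⊤ _ _ fun v _ => (key v).trans (map_one _).symm)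
  rw [show η = 0 from Additive.toMul.injective this, map_zero]

/-- The class of an equation. -/
noncomputable def cQ (E : Eqn i j) (Z : X.Etale) (hZ : Set.range Z.hom ⊆ (E.O.1 : Set X)) :
    EtCoh.sect (Q j) Z := (qπ j).hom.app (op Z) (eqS E Z hZ)

theorem cQ_map (E : Eqn i j) {Z Z' : X.Etale} (b : Z' ⟶ Z) (hZ : Set.range Z.hom ⊆ (E.O.1 : Set X)) :
    (Q j).obj.map b.op (cQ E Z hZ) = cQ E Z' ((EtPic91.range_subset_of_hom b).trans hZ) := by
  unfold cQ
  rw [qπ_map, eqS_map]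

theorem cQ_indep [IsLocallyNoetherian X] (hXreg : ∀ x : X, IsRegularLocalRing (X.presheaf.stalk x))
    (hU : Set.range j = (Set.range i)ᶜ) (E E' : Eqn i j) (Z : X.Etale)
    (hZ : Set.range Z.hom ⊆ (E.O.1 : Set X)) (hZ' : Set.range Z.hom ⊆ (E'.O.1 : Set X)) :
    cQ E Z hZ = cQ E' Z hZ' := by
  rw [← sub_eq_zero]
  refine sect_eq_zero_of_local _ _ fun z => ?_
  by_cases hz : z ∈ uo j Z
  · exact ⟨_, openSubι Z (uo j Z), ⟨z, hz⟩, rfl, qπ_eq_zero_off Z _⟩
  obtain ⟨W, hWaff, hzW, hW'⟩ := exists_isAffineOpen_mem_and_subset (X := Z.left)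
    (U := Z.hom ⁻¹ᵁ (E.O.1 ⊓ E'.O.1)) (x := z) (show Z.hom z ∈ (E.O.1 ⊓ E'.O.1 : X.Opens) from ⟨hZ ⟨z, rfl⟩, hZ' ⟨z, rfl⟩⟩)
  have hW : W ≤ Z.hom ⁻¹ᵁ (E.O.1 ⊓ E'.O.1) := hW'
  have hW1 : W ≤ Z.hom ⁻¹ᵁ E.O.1 := fun w hw => (hW hw).1
  have hW2 : W ≤ Z.hom ⁻¹ᵁ E'.O.1 := fun w hw => (hW hw).2
  obtain ⟨φ, hbo, hprime, heq⟩ := exists_pullback_eqn E Z W hW1 hXreg
  obtain ⟨φ', hbo', hprime', heq'⟩ := exists_pullback_eqn E' Z W hW2 hXreg
  have hzD := mem_range_i hU hz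
  have := regular_etale hXreg Z z
  have := CAlg1.isDomain_regular (Z.left.presheaf.stalk z)
  have hbb : Z.left.basicOpen φ ≤ Z.left.basicOpen φ' := hbo.le.trans hbo'.symm.le
  obtain ⟨O, hOW, u, k, hzO, hg⟩ := exists_unit_zpow hWaff φ hzW (hprime z hzW hzD) (rv hbb (fU φ'))
  rw [rv_rv] at hg
  obtain rfl := zpow_eq_one φ φ' hzW (hprime z hzW hzD) (hprime' z hzW hzD) hbb hOW hzO u k hg
  refine ⟨openSub Z O, openSubι Z O, ⟨z, hzO⟩, rfl, ?_⟩
  have hb : O ⊓ uo j Z ≤ Z.left.basicOpen φ := (inf_le_inf_right _ hOW).trans hbo.symm.le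
  have hb' : O ⊓ uo j Z ≤ Z.left.basicOpen φ' := (inf_le_inf_right _ hOW).trans hbo'.symm.le
  have hle : O ⊓ uo j Z ≤ O ⊓ Z.left.basicOpen φ := le_inf inf_le_left hb
  have hg' := congrArg (rv hle) hg
  rw [zpow_one, map_mul, rv_rv, rv_rv, rv_rv] at hg'
  rw [map_sub, cQ_map, cQ_map]
  unfold cQ
  rw [heq O hOW _ hb, heq' O hOW _ hb', show rv hb' (fU φ') = _ from hg', ofMul_mul, map_add, ← uR_gS]
  erw [map_add, qπ_uR, zero_add]
  exact sub_self _

theorem exists_class [IsLocallyNoetherian X] (hXreg : ∀ x : X, IsRegularLocalRing (X.presheaf.stalk x))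
    (hU : Set.range j = (Set.range i)ᶜ) (hE : ∀ x : X, ∃ E : Eqn i j, x ∈ E.O.1) :
    ∃ c : EtCoh.sect (Q j) (EtCoh.top X), ∀ (E : Eqn i j) (Z : X.Etale)
      (hZ : Set.range Z.hom ⊆ (E.O.1 : Set X)),
      (Q j).obj.map ((EtSh.isTerminalTop X).from Z).op c = cQ E Z hZ := by
  choose E hxE using hE
  obtain ⟨c, hc, -⟩ := EtPic91.exists_glue (Q j) (fun x => (E x).O.1) (fun x => ⟨x, hxE x⟩)
    (fun x => cQ (E x) (EtPic91.oObj _) (EtPic91.range_oObj _).subset) (fun x y => by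
      rw [cQ_map, cQ_map]
      exact cQ_indep hXreg hU _ _ _ _ _)
  refine ⟨c, fun E' Z hZ => ?_⟩
  rw [← sub_eq_zero]
  refine sect_eq_zero_of_local _ _ fun z => ?_
  let O : Z.left.Opens := Z.hom ⁻¹ᵁ (E (Z.hom z)).O.1
  have hr : Set.range (openSub Z O).hom ⊆ ((E (Z.hom z)).O.1 : Set X) := range_openSub_hom Z O _ le_rfl
  refine ⟨openSub Z O, openSubι Z O, ⟨z, hxE (Z.hom z)⟩, rfl, ?_⟩
  rw [map_sub, cQ_map, smap_smap, sub_eq_zero,
    (EtSh.isTerminalTop X).hom_ext (openSubι Z O ≫ _) (EtPic91.oLift hr ≫ (EtSh.isTerminalTop X).from _),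
    ← smap_smap, hc, cQ_map]
  exact cQ_indep hXreg hU _ _ _ _ _

variable [IsLocallyNoetherian X] (hXreg : ∀ x : X, IsRegularLocalRing (X.presheaf.stalk x))
  (hU : Set.range j = (Set.range i)ᶜ) (hE : ∀ x : X, ∃ E : Eqn i j, x ∈ E.O.1)
  (c : EtCoh.sect (Q j) (EtCoh.top X))
  (hc : ∀ (E : Eqn i j) (Z : X.Etale) (hZ : Set.range Z.hom ⊆ (E.O.1 : Set X)),
      (Q j).obj.map ((EtSh.isTerminalTop X).from Z).op c = cQ E Z hZ)

include hXreg hU hE hc in
theorem exists_zsmul_class (V : X.Etale) (q : EtCoh.sect (Q j) V) (v : V.left) :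
    ∃ (W : X.Etale) (f : W ⟶ V) (w : W.left) (k : ℤ), f.left w = v ∧
      (Q j).obj.map f.op q = k • (Q j).obj.map ((EtSh.isTerminalTop X).from W).op c := by
  by_cases hv : v ∈ uo j V
  · exact ⟨_, openSubι V (uo j V), ⟨v, hv⟩, 0, rfl, by rw [qπ_eq_zero_off, zero_smul]⟩
  obtain ⟨W, f, w, t, hw, ht⟩ := exists_local_lift (qπ j) q v
  have hwv : W.hom w = V.hom v := by
    have e : f.left ≫ V.hom = W.hom := MorphismProperty.Over.w f
    rw [← e, ← hw]
    rfl
  obtain ⟨E, hxE⟩ := hE (V.hom v)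
  obtain ⟨O, hO, s, k, hwO, h⟩ := exists_zpow E hXreg W t w (hwv ▸ hxE) (hwv ▸ mem_range_i hU hv)
  refine ⟨openSub W O, openSubι W O ≫ f, ⟨w, hwO⟩, k, hw, ?_⟩
  rw [← smap_smap, ← ht, qπ_map, h, map_add, qπ_uR, zero_add, map_zsmul, hc E _ hO]
  rfl

include hXreg hE hc in
theorem eq_zero_of_zsmul_class (Z : X.Etale) (z : Z.left) (hz : Z.hom z ∈ Set.range i) (k : ℤ)
    (h : k • (Q j).obj.map ((EtSh.isTerminalTop X).from Z).op c = 0) : k = 0 := by
  obtain ⟨E, hxE⟩ := hE (Z.hom z)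
  let O : Z.left.Opens := Z.hom ⁻¹ᵁ E.O.1
  have hr := range_openSub_hom Z O E.O.1 le_rfl
  have h1 := congrArg ((Q j).obj.map (openSubι Z O).op) h
  rw [map_zsmul, map_zero, smap_smap,
    (EtSh.isTerminalTop X).hom_ext (openSubι Z O ≫ _) ((EtSh.isTerminalTop X).from _), hc E _ hr] at h1
  unfold cQ at h1
  rw [← map_zsmul] at h1
  obtain ⟨W, f, w, s, hw, hs⟩ := exists_local_preimage (uR j) (k • eqS E (openSub Z O) hr) h1 ⟨z, hxE⟩
  rw [map_zsmul, eqS_map] at hs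
  have hwz : W.hom w = Z.hom z := by
    have e : (f ≫ openSubι Z O).left ≫ Z.hom = W.hom := MorphismProperty.Over.w _
    rw [← e]
    change Z.hom ((openSubι Z O).left (f.left w)) = _
    rw [hw]
    rfl
  have : IsOpenImmersion (𝟙 W : W ⟶ W).left := (inferInstance : IsOpenImmersion (𝟙 W.left))
  obtain ⟨η, hη⟩ := (gS_bijective (𝟙 W) (A := ⊤) (Set.subset_univ _) (fun z _ => ⟨z, rfl⟩)).2 (-s)
  refine (rigid_aux E hXreg W w (hwz ▸ hxE) (hwz ▸ hz) ((EtPic91.range_subset_of_hom f).trans hr)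
    (Additive.toMul η) k ?_).1
  rw [ofMul_toMul, hη, map_neg, hs, neg_add_cancel]

include hXreg hU hE hc in
theorem dvd_of_zsmul_class (Z : X.Etale) (z : Z.left) (hz : Z.hom z ∈ Set.range i) (m : ℤ) (n : ℕ)
    (q : EtCoh.sect (Q j) Z) (h : n • q = m • (Q j).obj.map ((EtSh.isTerminalTop X).from Z).op c) :
    (n : ℤ) ∣ m := by
  obtain ⟨W, f, w, l, hw, hl⟩ := exists_zsmul_class hXreg hU hE c hc Z q z
  have hwz : W.hom w = Z.hom z := by
    have e : f.left ≫ Z.hom = W.hom := MorphismProperty.Over.w f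
    rw [← e, ← hw]
    rfl
  have h1 := congrArg ((Q j).obj.map f.op) h
  rw [map_nsmul, map_zsmul, hl, smap_smap,
    (EtSh.isTerminalTop X).hom_ext (f ≫ _) ((EtSh.isTerminalTop X).from W), ← natCast_zsmul, smul_smul,
    ← sub_eq_zero, ← sub_smul] at h1
  exact ⟨l, (sub_eq_zero.1 (eq_zero_of_zsmul_class hXreg hE c hc W w (hwz ▸ hz) _ h1)).symm⟩

include hXreg hU hE hc in
theorem eq_zero_of_nsmul (n : ℕ) (hn : ∀ x : X, x ∈ Set.range i → n ≠ 0) (V : X.Etale)
    (q : EtCoh.sect (Q j) V) (h : n • q = 0) : q = 0 := by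
  refine sect_eq_zero_of_local _ _ fun v => ?_
  by_cases hv : v ∈ uo j V
  · exact ⟨_, openSubι V (uo j V), ⟨v, hv⟩, rfl, qπ_eq_zero_off V _⟩
  obtain ⟨W, f, w, k, hw, hk⟩ := exists_zsmul_class hXreg hU hE c hc V q v
  have hwv : W.hom w = V.hom v := by
    have e : f.left ≫ V.hom = W.hom := MorphismProperty.Over.w f
    rw [← e, ← hw]
    rfl
  have h1 := congrArg ((Q j).obj.map f.op) h
  rw [map_nsmul, map_zero, hk, ← natCast_zsmul, smul_smul] at h1
  have h2 := eq_zero_of_zsmul_class hXreg hE c hc W w (hwv ▸ mem_range_i hU hv) _ h1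
  rcases mul_eq_zero.1 h2 with h3 | h3
  · exact absurd (Int.natCast_eq_zero.1 h3) (hn _ (mem_range_i hU hv))
  · exact ⟨W, f, w, hw, by rw [hk, h3, zero_smul]⟩

end Groth.Agent.EtPurity91
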