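import Groth.Agent.Div89.UFD
import Groth.Agent.EtPic91.PicClass

/-!
Units off a prime divisor: locally a unit times a power of the equation.
-/

set_option autoImplicit false
set_option backward.isDefEq.respectTransparency.types false
set_option linter.style.haveILetI false

universe u

open CategoryTheory AlgebraicGeometry Opposite

namespace Groth.Agent.EtPurity91

variable {V : Scheme.{u}}

/-- Restriction of units. -/
noncomputable abbrev rv {A B : V.Opens} (h : B ≤ A) : (Γ(V, A))ˣ →* (Γ(V, B))ˣ :=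
  Units.map (V.presheaf.map (homOfLE h).op).hom.toMonoidHom

theorem rv_rv {A B C : V.Opens} (h : B ≤ A) (h' : C ≤ B) (a : (Γ(V, A))ˣ) :
    rv h' (rv h a) = rv (h'.trans h) a := by
  refine Units.ext ?_
  change (V.presheaf.map (homOfLE h).op ≫ V.presheaf.map (homOfLE h').op).hom (a : Γ(V, A)) = _
  rw [← Functor.map_comp]
  rfl

theorem germ_res {A B : V.Opens} (h : B ≤ A) {v : V} (hv : v ∈ B) (s : Γ(V, A)) :
    (V.presheaf.germ B v hv).hom ((V.presheaf.map (homOfLE h).op).hom s) = (V.presheaf.germ A v (h hv)).hom s :=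
  TopCat.Presheaf.germ_res_apply _ _ _ _ _

theorem res_res {A B C : V.Opens} (h : B ≤ A) (h' : C ≤ B) (s : Γ(V, A)) :
    (V.presheaf.map (homOfLE h').op).hom ((V.presheaf.map (homOfLE h).op).hom s) =
      (V.presheaf.map (homOfLE (h'.trans h)).op).hom s := by
  rw [← CommRingCat.comp_apply, ← Functor.map_comp]
  rfl

/-- The equation as a unit on its non-vanishing locus. -/
noncomputable def fU {W : V.Opens} (φ : Γ(V, W)) : (Γ(V, V.basicOpen φ))ˣ :=
  (RingedSpace.isUnit_res_basicOpen V.toRingedSpace φ).unit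

theorem fU_coe {W : V.Opens} (φ : Γ(V, W)) :
    (fU φ : Γ(V, V.basicOpen φ)) = V.presheaf.map (homOfLE (V.basicOpen_le φ)).op φ :=
  IsUnit.unit_spec _

theorem germ_eq_zero {W : V.Opens} (φ : Γ(V, W)) {v : V} (hv : v ∈ W) [IsDomain (V.presheaf.stalk v)]
    (hφ : (V.presheaf.germ W v hv).hom φ ≠ 0) {O : V.Opens} (hO : O ≤ W) (hvO : v ∈ O) (c : Γ(V, O))
    (hc : (V.presheaf.map (homOfLE (inf_le_left : O ⊓ V.basicOpen φ ≤ O)).op).hom c = 0) :
    (V.presheaf.germ O v hvO).hom c = 0 := by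
  obtain ⟨W', hW', hvW', hle'⟩ := exists_isAffineOpen_mem_and_subset (U := O) hvO
  have hle : W' ≤ O := hle'
  let φ' := (V.presheaf.map (homOfLE (hle.trans hO)).op).hom φ
  have hb : V.basicOpen φ' = W' ⊓ V.basicOpen φ := Scheme.basicOpen_res V φ _
  have := IsAffineOpen.isLocalization_basicOpen hW' φ'
  have h0 : algebraMap Γ(V, W') Γ(V, V.basicOpen φ') ((V.presheaf.map (homOfLE hle).op).hom c) = 0 := by
    have hle2 : V.basicOpen φ' ≤ O ⊓ V.basicOpen φ := hb.le.trans (inf_le_inf_right _ hle)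
    have h1 := congrArg (V.presheaf.map (homOfLE hle2).op).hom hc
    rw [map_zero, ← CommRingCat.comp_apply, ← Functor.map_comp] at h1
    change (V.presheaf.map (homOfLE (V.basicOpen_le φ')).op).hom _ = 0
    rw [← CommRingCat.comp_apply, ← Functor.map_comp]
    exact h1
  obtain ⟨⟨_, N, rfl⟩, hN⟩ := (IsLocalization.map_eq_zero_iff (Submonoid.powers φ') _ _).1 h0
  have h2 := congrArg (V.presheaf.germ W' v hvW').hom hN
  simp only [φ'] at h2
  rw [map_mul, map_pow, map_zero, germ_res, germ_res] at h2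
  exact (mul_eq_zero.1 h2).resolve_left (pow_ne_zero _ hφ)

theorem exists_unit_zpow {W : V.Opens} (hW : IsAffineOpen W) (φ : Γ(V, W)) {v : V} (hv : v ∈ W)
    [IsDomain (V.presheaf.stalk v)] (hφ : Prime ((V.presheaf.germ W v hv).hom φ))
    (g : (Γ(V, V.basicOpen φ))ˣ) :
    ∃ (O : V.Opens) (_ : O ≤ W) (u : (Γ(V, O))ˣ) (k : ℤ), v ∈ O ∧
      rv (inf_le_right : O ⊓ V.basicOpen φ ≤ _) g =
        rv (inf_le_left : O ⊓ V.basicOpen φ ≤ O) u * rv (inf_le_right : O ⊓ V.basicOpen φ ≤ _) (fU φ) ^ k := by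
  have := IsAffineOpen.isLocalization_basicOpen hW φ
  let L := Γ(V, V.basicOpen φ)
  let P := (V.presheaf.germ W v hv).hom φ
  obtain ⟨⟨a, ⟨_, m, rfl⟩⟩, ha⟩ := IsLocalization.surj (Submonoid.powers φ) (g : L)
  obtain ⟨⟨b, ⟨_, n, rfl⟩⟩, hb⟩ := IsLocalization.surj (Submonoid.powers φ) ((g⁻¹ : Lˣ) : L)
  dsimp only at ha hb
  have hab : algebraMap Γ(V, W) L (a * b) = algebraMap Γ(V, W) L (φ ^ m * φ ^ n) := by
    rw [map_mul, map_mul, ← ha, ← hb, mul_mul_mul_comm, Units.mul_inv, one_mul]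
  obtain ⟨⟨_, N, rfl⟩, hN⟩ := (IsLocalization.eq_iff_exists (Submonoid.powers φ) L).1 hab
  have hP : (V.presheaf.germ W v hv).hom a * (V.presheaf.germ W v hv).hom b = P ^ (m + n) := by
    have h2 := congrArg (V.presheaf.germ W v hv).hom hN
    simp only [map_mul, map_pow] at h2
    rw [pow_add]
    exact mul_left_cancel₀ (pow_ne_zero N hφ.ne_zero) h2
  obtain ⟨i, -, hi⟩ := (dvd_prime_pow hφ (m + n)).1 (Dvd.intro _ hP)
  obtain ⟨w, hw⟩ := hi.symm
  obtain ⟨O₀, hvO₀, u₀, hu₀⟩ := V.presheaf.exists_germ_eq (w : V.presheaf.stalk v)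
  have hu₀' : IsUnit ((V.presheaf.germ O₀ v hvO₀).hom u₀) := by rw [hu₀]; exact w.isUnit
  have hvb : v ∈ V.basicOpen u₀ := (V.mem_basicOpen u₀ v hvO₀).2 hu₀'
  let O₁ : V.Opens := W ⊓ V.basicOpen u₀
  have h1W : O₁ ≤ W := inf_le_left
  have h1b : O₁ ≤ V.basicOpen u₀ := inf_le_right
  have hv₁ : v ∈ O₁ := ⟨hv, hvb⟩
  let u₁ : (Γ(V, O₁))ˣ := rv h1b (fU u₀)
  have hu₁ : (u₁ : Γ(V, O₁)) = (V.presheaf.map (homOfLE (h1b.trans (V.basicOpen_le u₀))).op).hom u₀ := by
    change (V.presheaf.map (homOfLE h1b).op).hom (fU u₀ : Γ(V, V.basicOpen u₀)) = _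
    rw [fU_coe, ← CommRingCat.comp_apply, ← Functor.map_comp]
    rfl
  obtain ⟨O, hvO, i₁, i₂, heq⟩ := V.presheaf.germ_eq v hv₁ hv₁
    ((V.presheaf.map (homOfLE h1W).op).hom a) ((u₁ : Γ(V, O₁)) * (V.presheaf.map (homOfLE h1W).op).hom φ ^ i) (by
      rw [map_mul, map_pow, hu₁, germ_res, germ_res, germ_res, hu₀, ← hw, mul_comm])
  have hOW : O ≤ W := i₁.le.trans h1W
  refine ⟨O, hOW, rv i₁.le u₁, (i : ℤ) - m, hvO, ?_⟩
  let T := O ⊓ V.basicOpen φ
  let F := rv (inf_le_right : T ≤ V.basicOpen φ) (fU φ)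
  suffices h : rv (inf_le_right : T ≤ _) g * F ^ m = rv (inf_le_left : T ≤ O) (rv i₁.le u₁) * F ^ i by
    rw [zpow_sub, zpow_natCast, zpow_natCast, ← mul_assoc, ← h, mul_inv_cancel_right]
  refine Units.ext ?_
  have hφT : ((F : (Γ(V, T))ˣ) : Γ(V, T)) =
      (V.presheaf.map (homOfLE ((inf_le_left : T ≤ O).trans hOW)).op).hom φ := by
    change (V.presheaf.map _).hom (fU φ : L) = _
    rw [fU_coe, ← CommRingCat.comp_apply, ← Functor.map_comp]
    rfl
  have e1 := congrArg (V.presheaf.map (homOfLE (inf_le_right : T ≤ V.basicOpen φ)).op).hom ha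
  have e2 := congrArg (V.presheaf.map (homOfLE (inf_le_left : T ≤ O)).op).hom heq
  change (V.presheaf.map _).hom ((g : L) * (V.presheaf.map (homOfLE (V.basicOpen_le φ)).op).hom (φ ^ m)) =
    (V.presheaf.map _).hom ((V.presheaf.map (homOfLE (V.basicOpen_le φ)).op).hom a) at e1
  simp only [map_mul, map_pow, ← CommRingCat.comp_apply, ← Functor.map_comp] at e1 e2
  rw [Units.val_mul, Units.val_mul, Units.val_pow_eq_pow_val, Units.val_pow_eq_pow_val, hφT]
  refine e1.trans (e2.trans ?_)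
  rw [rv_rv]
  rfl

theorem zpow_rigid {W : V.Opens} (φ : Γ(V, W)) {v : V} (hv : v ∈ W) [IsDomain (V.presheaf.stalk v)]
    (hφ : Prime ((V.presheaf.germ W v hv).hom φ)) {O : V.Opens} (hO : O ≤ W) (hvO : v ∈ O)
    (u : (Γ(V, O))ˣ) (k : ℤ)
    (h : rv (inf_le_left : O ⊓ V.basicOpen φ ≤ O) u *
      rv (inf_le_right : O ⊓ V.basicOpen φ ≤ _) (fU φ) ^ k = 1) :
    k = 0 ∧ (V.presheaf.germ O v hvO).hom (u : Γ(V, O)) = 1 := by
  let T := O ⊓ V.basicOpen φ
  let F := rv (inf_le_right : T ≤ V.basicOpen φ) (fU φ)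
  let φ' := (V.presheaf.map (homOfLE hO).op).hom φ
  have hg : (V.presheaf.germ O v hvO).hom φ' = (V.presheaf.germ W v hv).hom φ :=
    TopCat.Presheaf.germ_res_apply _ _ _ _ _
  have hφT : ((F : (Γ(V, T))ˣ) : Γ(V, T)) = (V.presheaf.map (homOfLE (inf_le_left : T ≤ O)).op).hom φ' := by
    change (V.presheaf.map _).hom (fU φ : Γ(V, V.basicOpen φ)) = _
    rw [fU_coe, ← CommRingCat.comp_apply, ← Functor.map_comp, ← CommRingCat.comp_apply, ← Functor.map_comp]
    rfl
  obtain ⟨m, rfl | rfl⟩ := Int.eq_nat_or_neg k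
  · have key : (V.presheaf.germ O v hvO).hom ((u : Γ(V, O)) * φ' ^ m - 1) = 0 := by
      refine germ_eq_zero φ hv hφ.ne_zero hO hvO _ ?_
      rw [map_sub, map_mul, map_pow, map_one, ← hφT, sub_eq_zero]
      have := congrArg Units.val h
      rw [zpow_natCast, Units.val_mul, Units.val_pow_eq_pow_val, Units.val_one] at this
      exact this
    rw [map_sub, map_mul, map_pow, map_one, hg, sub_eq_zero] at key
    rcases m with _ | m
    · exact ⟨rfl, by simpa using key⟩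
    · refine absurd (IsUnit.of_mul_eq_one_right _ key) fun hu => hφ.not_unit ?_
      exact (isUnit_pow_iff m.succ_ne_zero).1 hu
  · rw [zpow_neg, zpow_natCast, mul_inv_eq_one] at h
    have key : (V.presheaf.germ O v hvO).hom ((u : Γ(V, O)) - φ' ^ m) = 0 := by
      refine germ_eq_zero φ hv hφ.ne_zero hO hvO _ ?_
      rw [map_sub, map_pow, ← hφT, sub_eq_zero]
      have := congrArg Units.val h
      rw [Units.val_pow_eq_pow_val] at this
      exact this
    rw [map_sub, map_pow, hg, sub_eq_zero] at key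
    rcases m with _ | m
    · exact ⟨rfl, by simpa using key⟩
    · refine absurd (key ▸ u.isUnit.map (V.presheaf.germ O v hvO).hom) fun hu => hφ.not_unit ?_
      exact (isUnit_pow_iff m.succ_ne_zero).1 hu

end Groth.Agent.EtPurity91
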